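import Cfsg.Agent.ThMat.Maps

/-! Generated: the stored matrices are reduced. -/

set_option Elab.async false
set_option maxRecDepth 100000

namespace Cfsg.Agent.ThMat

theorem good_tm0 : goodC 248 (rowsOf 248 tm0) = true := by decide +kernel

theorem good_tm1 : goodC 248 (rowsOf 248 tm1) = true := by decide +kernel

theorem good_tm2 : goodC 248 (rowsOf 248 tm2) = true := by decide +kernel

theorem good_tm3 : goodC 248 (rowsOf 248 tm3) = true := by decide +kernel

theorem good_tm4 : goodC 248 (rowsOf 248 tm4) = true := by decide +kernel

theorem good_tm5 : goodC 248 (rowsOf 248 tm5) = true := by decide +kernel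

theorem good_tm6 : goodC 248 (rowsOf 248 tm6) = true := by decide +kernel

theorem good_tm7 : goodC 248 (rowsOf 248 tm7) = true := by decide +kernel

theorem good_tm8 : goodC 248 (rowsOf 248 tm8) = true := by decide +kernel

theorem good_tm9 : goodC 248 (rowsOf 248 tm9) = true := by decide +kernel

theorem good_tm10 : goodC 248 (rowsOf 248 tm10) = true := by decide +kernel

theorem good_id_check : goodC 248 id248 = true := by decide +kernel

theorem mask_eq : mask248 = maskF 248 := by decide +kernel

theorem good_mth : ∀ x, Good 248 (rowsOf 248 (mth x))
  | 0 => good_of_check good_tm0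
  | 1 => good_of_check good_tm1
  | 2 => good_of_check good_tm2
  | 3 => good_of_check good_tm3
  | 4 => good_of_check good_tm4
  | 5 => good_of_check good_tm5
  | 6 => good_of_check good_tm6
  | 7 => good_of_check good_tm7
  | 8 => good_of_check good_tm8
  | 9 => good_of_check good_tm9
  | 10 => good_of_check good_tm10
  | _ + 11 => good_of_check good_tm0

end Cfsg.Agent.ThMat
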