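import Cfsg.Agent.ThMat.Maps
import Mathlib.GroupTheory.PresentedGroup

/-!
# Matrices acting on packed rows
-/

set_option autoImplicit false
set_option maxRecDepth 100000

namespace Cfsg.Agent.ThMat

attribute [local irreducible] pk maskF pkR

/-- The matrix of a letter. -/
noncomputable def mV (x : Nat) : Matrix (Fin 248) (Fin 248) (ZMod 3) := matG mth x

/-- A reduced packed row. -/
def RowOK (r : Nat) : Prop := ∃ f : Nat → Nat, (∀ j, f j < 3) ∧ r = pk 248 f

/-- The check of a reduced row. -/
noncomputable def rowC (r : Nat) : Bool :=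
  Nat.blt r (16777216 ^ 248) && Cfsg.Agent.CosetCert.allFrom (fun j => Nat.blt (fieldN r j) 3) 0 248

theorem rowOK_of_check {r : Nat} (h : rowC r = true) : RowOK r := by
  simp only [rowC, Bool.and_eq_true, Nat.blt_eq] at h
  refine ⟨fun j => if j < 248 then fieldN r j else 0, fun j => ?_, ?_⟩
  · show (if j < 248 then fieldN r j else 0) < 3
    split
    · exact Nat.blt_eq.mp ((Cfsg.Agent.CosetCert.allFrom_iff _ _ _).1 h.2 j (Nat.zero_le _) (by omega))
    · norm_num
  · conv_lhs => rw [← pk_field 248 r h.1]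
    exact pk_congr 248 fun j hj => by rw [if_pos hj]

/-- The vector of a packed row. -/
def vec (r : Nat) : Fin 248 → ZMod 3 := fun j => (fieldN r j : ZMod 3)

theorem vec_inj {r s : Nat} (hr : RowOK r) (hs : RowOK s) (h : vec r = vec s) : r = s := by
  obtain ⟨f, hf, rfl⟩ := hr
  obtain ⟨g, hg, rfl⟩ := hs
  refine pk_congr 248 fun j hj => ?_
  have e := congrFun h ⟨j, hj⟩
  simp only [vec, field_pk 248 f (fun i _ => (hf i).trans (by norm_num)) j hj,
    field_pk 248 g (fun i _ => (hg i).trans (by norm_num)) j hj, ZMod.natCast_eq_natCast_iff'] at e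
  have := hf j
  have := hg j
  omega

theorem toMat_replicate (s : Nat) (i : Fin 248) : toMat 248 (List.replicate 248 s) i = vec s := by
  funext j
  simp only [toMat, Matrix.of_apply, List.getD_replicate _ i.2]
  rfl

theorem row_spec (hG : ∀ x, Good 248 (rowsOf 248 (mth x))) (hm : mask248 = maskF 248) {r : Nat}
    (hr : RowOK r) (w : List Nat) :
    RowOK (rowW mask248 mth w r) ∧
      vec (rowW mask248 mth w r) = Matrix.vecMul (vec r) (w.map mV).prod := by
  obtain ⟨f, hf, e⟩ := hr
  have hP : Good 248 (List.replicate 248 r) :=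
    ⟨List.length_replicate, fun x hx => ⟨f, hf, by rw [List.eq_of_mem_replicate hx]; exact e⟩⟩
  obtain ⟨⟨hl, hr'⟩, h2⟩ := word_spec (by norm_num) mth hG w _ hP
  rw [List.map_replicate, ← hm] at h2 hr'
  refine ⟨hr' _ (List.mem_replicate.2 ⟨by norm_num, rfl⟩), ?_⟩
  funext j
  have hj := congrFun (congrFun h2 ⟨0, by norm_num⟩) j
  rw [toMat_replicate, Matrix.mul_apply] at hj
  rw [hj]
  simp only [Matrix.vecMul, dotProduct, toMat_replicate]
  rfl

end Cfsg.Agent.ThMat
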