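import Cfsg.Agent.ThMat.OrbitLink

/-!
# The image of the representation of degree 248 has order divisible by that of the Thompson group
-/

set_option autoImplicit false
set_option maxRecDepth 100000

namespace Cfsg.Agent.ThMat

theorem dvd_two : 32768 ∣ Nat.card thRep.range :=
  Dvd.dvd.trans (by decide +kernel) (two0_ok.dvd_range (two0_ok.link_dvd two1_link (two1_ok.link_dvd two2_link (two2_ok.link_dvd two3_link (two3_ok.link_dvd two4_link (two4_ok.link_dvd two5_link (two5_ok.link_dvd two6_link (two6_ok.link_dvd two7_link (two7_ok.link_dvd two8_link (two8_ok.length_dvd))))))))))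

theorem dvd_three : 59049 ∣ Nat.card thRep.range :=
  Dvd.dvd.trans (by decide +kernel) (three0_ok.dvd_range (three0_ok.link_dvd three1_link (three1_ok.link_dvd three2_link (three2_ok.link_dvd three3_link (three3_ok.length_dvd)))))

theorem dvd_five : 125 ∣ Nat.card thRep.range :=
  Dvd.dvd.trans (by decide +kernel) (five0_ok.dvd_range (five0_ok.link_dvd five1_link (five1_ok.length_dvd)))

theorem dvd_seven : 49 ∣ Nat.card thRep.range :=
  Dvd.dvd.trans (by decide +kernel) (seven0_ok.dvd_range (seven0_ok.link_dvd seven1_link (seven1_ok.length_dvd)))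

theorem dvd_p13 : 13 ∣ Nat.card thRep.range :=
  Dvd.dvd.trans (by decide +kernel) (p130_ok.dvd_range (p130_ok.length_dvd))

theorem dvd_p19 : 19 ∣ Nat.card thRep.range :=
  Dvd.dvd.trans (by decide +kernel) (p190_ok.dvd_range (p190_ok.length_dvd))

theorem dvd_p31 : 31 ∣ Nat.card thRep.range :=
  Dvd.dvd.trans (by decide +kernel) (p310_ok.dvd_range (p310_ok.length_dvd))

theorem card_dvd : 90745943887872000 ∣ Nat.card thRep.range := by
  have e : 90745943887872000 = 32768 * 59049 * 125 * 49 * 13 * 19 * 31 := by norm_num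
  rw [e]
  refine Nat.Coprime.mul_dvd_of_dvd_of_dvd (by norm_num) ?_ dvd_p31
  refine Nat.Coprime.mul_dvd_of_dvd_of_dvd (by norm_num) ?_ dvd_p19
  refine Nat.Coprime.mul_dvd_of_dvd_of_dvd (by norm_num) ?_ dvd_p13
  refine Nat.Coprime.mul_dvd_of_dvd_of_dvd (by norm_num) ?_ dvd_seven
  refine Nat.Coprime.mul_dvd_of_dvd_of_dvd (by norm_num) ?_ dvd_five
  exact Nat.Coprime.mul_dvd_of_dvd_of_dvd (by norm_num) dvd_two dvd_three

end Cfsg.Agent.ThMat
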