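import Cfsg.Agent.DCoset.Th.Simple

/-!
# The subgroup of index three of `<a, b, c, d, e, s, t>` is simple of order 211341312

A nontrivial normal subgroup of the whole group contains `a, b, c, d, e, s`, hence the kernel of
the exponent of `t` modulo three. A minimal normal subgroup of that kernel therefore generates it
together with its two conjugates under `t`, and since 13 divides the order exactly once, it is
the whole kernel.
-/

set_option autoImplicit false
set_option maxRecDepth 100000

namespace Cfsg.Agent.DCoset.Th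

open Cfsg.Agent.DCoset Cfsg.Agent.CosetCert

/-- The kernel of the exponent of `t`. -/
abbrev H3D : Subgroup HGroup := chi.ker

theorem ql_single_of (b : Fin 7) : ql [b.val] = PresentedGroup.of b := by
  fin_cases b <;> simp [ql, qL, letWord, qB] <;> rfl

theorem chi_of (b : Fin 7) : chi (PresentedGroup.of b) = chiGen b :=
  PresentedGroup.toGroup.of _

theorem chi_gen {g : Nat} (hg : g < 6) : chi (ql [g]) = 1 := by
  rw [show ql [g] = PresentedGroup.of (⟨g, by omega⟩ : Fin 7) from ql_single_of ⟨g, by omega⟩,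
    chi_of]
  simp [chiGen, Fin.ext_iff, Nat.ne_of_lt hg]

theorem chi_t : chi (ql [6]) = Multiplicative.ofAdd (1 : ZMod 3) := by
  rw [show ql [6] = PresentedGroup.of (6 : Fin 7) from ql_single_of 6, chi_of]
  rfl

theorem h3d_card : Nat.card H3D = 211341312 := by
  have := hgroup_card.1
  have hs : Function.Surjective chi := by
    intro y
    refine ⟨ql [6] ^ (Multiplicative.toAdd y).val, ?_⟩
    rw [map_pow, chi_t, ← ofAdd_nsmul]
    simp
  have h := Subgroup.card_mul_index H3D
  rw [Subgroup.index_ker, MonoidHom.range_eq_top.2 hs, Subgroup.card_top, hgroup_card_eq,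
    Nat.card_congr Multiplicative.toAdd, Nat.card_zmod] at h
  omega

theorem gen_split (x : HGroup) :
    x ∈ Subgroup.closure (Set.range (PresentedGroup.of : Fin 7 → HGroup)) := by
  simp

/-- A nontrivial normal subgroup contains the kernel. -/
theorem h3d_le (N : Subgroup HGroup) [N.Normal] (hN : N ≠ ⊥) : H3D ≤ N := by
  let π := QuotientGroup.mk' N
  have h1 : ∀ {y}, y ∈ N → π y = 1 := fun {y} hy => (QuotientGroup.eq_one_iff y).2 hy
  have h3 : ql [6] ^ 3 = 1 := by
    rw [pow_succ, sq, ← ql_append, ← ql_append, ql_eq (m := []) (by decide +kernel)]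
    simp [ql]
  have key : ∀ x : HGroup, π x = π (ql [6]) ^ (Multiplicative.toAdd (chi x)).val := by
    have hm : ∀ m : Nat, π (ql [6]) ^ m = π (ql [6]) ^ (m % 3) := fun m => by
      rw [← map_pow π, ← map_pow π]
      congr 1
      conv_lhs => rw [← Nat.mod_add_div m 3, pow_add, pow_mul, h3, one_pow, mul_one]
    intro x
    have hx := gen_split x
    induction hx using Subgroup.closure_induction with
    | mem y hy =>
      obtain ⟨b, rfl⟩ := hy
      rw [← ql_single_of]
      by_cases hb : b.val < 6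
      · rw [chi_gen hb, h1 (normal_contains N hN _ hb)]
        simp
      · rw [show b.val = 6 by omega, chi_t]
        simp [ZMod.val_one]
    | one => simp
    | mul a b _ _ ha hb =>
      rw [map_mul, ha, hb, ← pow_add, map_mul, toAdd_mul, ZMod.val_add, ← hm]
    | inv a _ ha =>
      rw [map_inv, inv_eq_iff_mul_eq_one, ha, ← pow_add, hm, ← ZMod.val_add, map_inv, toAdd_inv,
        add_neg_cancel, ZMod.val_zero, pow_zero]
  intro x hx
  refine (QuotientGroup.eq_one_iff x).1 ?_
  have := key x
  rw [(MonoidHom.mem_ker).1 hx] at this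
  simpa [π] using this

theorem h3d_simple : IsSimpleGroup H3D := by
  classical
  have := hgroup_card.1
  have hcard := h3d_card
  haveI : Nontrivial H3D := Finite.one_lt_card_iff_nontrivial.1 (by rw [hcard]; norm_num)
  refine ⟨fun N₀ hN₀ => ?_⟩
  by_contra hcon
  push Not at hcon
  -- a minimal normal subgroup
  let S : Set Nat := {n | ∃ M : Subgroup H3D, M.Normal ∧ M ≠ ⊥ ∧ Nat.card M = n}
  have hS : S.Nonempty := ⟨_, N₀, hN₀, hcon.1, rfl⟩
  obtain ⟨M, hMn, hMb, hMc⟩ := Nat.sInf_mem hS
  have hmin : ∀ K : Subgroup H3D, K.Normal → K ≠ ⊥ → K ≤ M → K = M := fun K hK hKb hKM =>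
    Subgroup.eq_of_le_of_card_ge hKM (hMc ▸ Nat.sInf_le ⟨K, hK, hKb, rfl⟩)
  have hMle : Nat.card M ≤ Nat.card N₀ := hMc ▸ Nat.sInf_le ⟨N₀, hN₀, hcon.1, rfl⟩
  let φ : H3D ≃* H3D := MulAut.conjNormal (ql [6])
  let M₁ : Subgroup H3D := M.map φ.toMonoidHom
  let M₂ : Subgroup H3D := M₁.map φ.toMonoidHom
  haveI hM₁ : M₁.Normal := hMn.map _ φ.surjective
  haveI hM₂ : M₂.Normal := hM₁.map _ φ.surjective
  have hcube : M₂.map φ.toMonoidHom = M := by
    have h3 : ql [6] * ql [6] * ql [6] = 1 := by
      rw [← ql_append, ← ql_append, ql_eq (m := []) (by decide +kernel)]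
      simp [ql]
    show ((M.map φ.toMonoidHom).map φ.toMonoidHom).map φ.toMonoidHom = M
    rw [Subgroup.map_map, Subgroup.map_map]
    have : (φ.toMonoidHom.comp φ.toMonoidHom).comp φ.toMonoidHom = MonoidHom.id _ := by
      ext x
      simp [φ, MulAut.conjNormal_apply]
      calc _ = ql [6] * ql [6] * ql [6] * (x : HGroup) * (ql [6] * ql [6] * ql [6])⁻¹ := by group
        _ = (x : HGroup) := by rw [h3]; group
    rw [this, Subgroup.map_id]
  let P : Subgroup H3D := M ⊔ M₁ ⊔ M₂
  have hMM : M ≤ P := le_sup_left.trans le_sup_left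
  haveI hP : P.Normal := Subgroup.sup_normal _ _
  have hφP : P.map φ.toMonoidHom = P := by
    show (M ⊔ M₁ ⊔ M₂).map φ.toMonoidHom = M ⊔ M₁ ⊔ M₂
    rw [Subgroup.map_sup, Subgroup.map_sup, hcube]
    show M₁ ⊔ M₂ ⊔ M = _
    rw [sup_comm, sup_assoc]
  -- it is invariant under the whole group
  have hnorm : ∀ g : HGroup, P.map (MulAut.conjNormal g : H3D ≃* H3D).toMonoidHom = P := by
    intro g
    have hg := gen_split g
    induction hg using Subgroup.closure_induction with
    | mem y hy =>
      obtain ⟨b, rfl⟩ := hy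
      rw [← ql_single_of]
      by_cases hb : b.val < 6
      · let y : H3D := ⟨ql [b.val], MonoidHom.mem_ker.2 (chi_gen hb)⟩
        have hy : (MulAut.conjNormal (ql [b.val]) : H3D ≃* H3D) = MulAut.conj y := by
          apply MulEquiv.ext
          intro x
          exact Subtype.ext (by simp [MulAut.conjNormal_apply, y])
        rw [hy]
        exact Subgroup.Normal.map_conj_eq P y
      · rw [show b.val = 6 by omega]; exact hφP
    | one =>
      rw [show ((MulAut.conjNormal (1 : HGroup) : H3D ≃* H3D)).toMonoidHom = MonoidHom.id _ from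
        MonoidHom.ext fun x => Subtype.ext (by simp)]
      exact Subgroup.map_id P
    | mul a b _ _ ha hb =>
      rw [show (MulAut.conjNormal (a * b) : H3D ≃* H3D).toMonoidHom =
        (MulAut.conjNormal a : H3D ≃* H3D).toMonoidHom.comp
          (MulAut.conjNormal b : H3D ≃* H3D).toMonoidHom from
        MonoidHom.ext fun x => Subtype.ext (by simp [MulAut.conjNormal_apply, mul_assoc]),
        ← Subgroup.map_map, hb, ha]
    | inv a _ ha =>
      conv_lhs => rw [← ha]
      rw [Subgroup.map_map, show (MulAut.conjNormal a⁻¹ : H3D ≃* H3D).toMonoidHom.comp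
        (MulAut.conjNormal a : H3D ≃* H3D).toMonoidHom = MonoidHom.id _ from
        MonoidHom.ext fun x => Subtype.ext (by simp [mul_assoc])]
      exact Subgroup.map_id P
  haveI hQ : (P.map H3D.subtype).Normal := by
    refine ⟨?_⟩
    rintro _ ⟨x, hx, rfl⟩ g
    refine ⟨MulAut.conjNormal g x, ?_, by simp [MulAut.conjNormal_apply]⟩
    rw [← hnorm g]
    exact ⟨x, hx, rfl⟩
  have htop : P = ⊤ := by
    have hb : P.map H3D.subtype ≠ ⊥ := by
      rw [Ne, Subgroup.map_eq_bot_iff_of_injective _ H3D.subtype_injective]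
      exact fun h => hMb (le_bot_iff.1 (h ▸ hMM))
    refine eq_top_iff.2 fun x _ => ?_
    obtain ⟨y, hy, hyx⟩ := h3d_le _ hb x.2
    rwa [show x = y from Subtype.ext hyx.symm]
  -- orders
  have supCard : ∀ (A B : Subgroup H3D) [B.Normal],
      Nat.card (A ⊔ B : Subgroup H3D) ∣ Nat.card A * Nat.card B := by
    intro A B _
    have h1 : (⊥ : Subgroup H3D).relIndex B * B.relIndex (A ⊔ B) =
        (⊥ : Subgroup H3D).relIndex (A ⊔ B) :=
      Subgroup.relIndex_mul_relIndex _ _ _ bot_le le_sup_right
    rw [Subgroup.relIndex_sup_right, Subgroup.relIndex_bot_left, Subgroup.relIndex_bot_left] at h1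
    rw [← h1, mul_comm (Nat.card A)]
    exact Nat.mul_dvd_mul_left _ (Subgroup.relIndex_dvd_card _ _)
  have supEq : ∀ (A B : Subgroup H3D) [B.Normal], A ⊓ B = ⊥ →
      Nat.card A * Nat.card B ∣ Nat.card H3D := by
    intro A B _ hAB
    have h1 : (⊥ : Subgroup H3D).relIndex B * B.relIndex (A ⊔ B) =
        (⊥ : Subgroup H3D).relIndex (A ⊔ B) :=
      Subgroup.relIndex_mul_relIndex _ _ _ bot_le le_sup_right
    rw [Subgroup.relIndex_sup_right, Subgroup.relIndex_bot_left, Subgroup.relIndex_bot_left,
      ← Subgroup.inf_relIndex_left, hAB, Subgroup.relIndex_bot_left] at h1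
    rw [mul_comm, h1]
    exact Subgroup.card_subgroup_dvd_card _
  have h13 : Nat.Prime 13 := by norm_num
  have hc₁ : Nat.card M₁ = Nat.card M :=
    Subgroup.card_map_of_injective φ.injective
  have hc₂ : Nat.card M₂ = Nat.card M :=
    (Subgroup.card_map_of_injective φ.injective).trans hc₁
  by_cases hfix : M₁ = M
  · have h2 : M₂ = M := by show M₁.map φ.toMonoidHom = M; rw [hfix]; exact hfix
    have : M = ⊤ := by rw [← htop]; show M = M ⊔ M₁ ⊔ M₂; rw [hfix, h2]; simp
    rw [this, Subgroup.card_top] at hMle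
    exact hcon.2 (Subgroup.eq_top_of_le_card _ hMle)
  have hinf : M ⊓ M₁ = ⊥ := by
    by_contra h
    have h' := hmin _ (Subgroup.normal_inf_normal M M₁) h inf_le_left
    exact hfix (Subgroup.eq_of_le_of_card_ge (inf_eq_left.1 h') hc₁.le).symm
  have hd : 13 ∣ Nat.card M := by
    have hbig : Nat.card H3D ∣ Nat.card M * Nat.card M * Nat.card M := by
      rw [← Subgroup.card_top, ← htop]
      refine (supCard (M ⊔ M₁) M₂).trans ?_
      rw [hc₂]
      refine Nat.mul_dvd_mul_right ?_ _
      conv_rhs => arg 2; rw [← hc₁]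
      exact supCard M M₁
    have : 13 ∣ Nat.card M * Nat.card M * Nat.card M :=
      (by rw [hcard]; norm_num : (13 : Nat) ∣ Nat.card H3D).trans hbig
    rcases h13.dvd_mul.1 this with h | h
    · rcases h13.dvd_mul.1 h with h | h <;> exact h
    · exact h
  have : 13 * 13 ∣ 211341312 := by
    rw [← hcard]
    exact (Nat.mul_dvd_mul hd (hc₁ ▸ hd)).trans (supEq M M₁ hinf)
  norm_num at this

/-- It is a group of type `³D₄(2)`. -/
theorem h3d_order : ∃ q : ℕ, IsPrimePow q ∧
    Nat.card H3D = q ^ 12 * (q ^ 8 + q ^ 4 + 1) * (q ^ 6 - 1) * (q ^ 2 - 1) :=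
  ⟨2, Nat.prime_two.isPrimePow, by rw [h3d_card]; norm_num⟩

end Cfsg.Agent.DCoset.Th
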