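import Cfsg.Agent.ThMat.Main
import Cfsg.Agent.ThMat.HSimple
import Cfsg.Prelude.Def_Sporadic
import Cfsg.Prelude.Def_Exceptional

/-!
# The Thompson group inside GL(248, 3)
-/

set_option autoImplicit false

namespace Cfsg.Agent.ThMat

open Cfsg.Agent.DCoset

theorem th_big : Th.Big := by
  have := Th.th_finite.1
  refine Nat.le_of_dvd Nat.card_pos (card_dvd.trans ?_)
  exact Subgroup.card_range_dvd thRep

theorem thRep_injective : Function.Injective thRep := by
  have := Th.th_finite.1
  have hc : Nat.card thRep.range = Nat.card Cfsg.Spor.Th := by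
    refine Nat.dvd_antisymm (Subgroup.card_range_dvd thRep) ?_
    rw [(Th.exact_of_big th_big).1]
    exact card_dvd
  have hb := (Nat.bijective_iff_surjective_and_card thRep.rangeRestrict).2
    ⟨thRep.rangeRestrict_surjective, hc.symm⟩
  exact fun x y hxy => hb.1 (Subtype.ext hxy)

/-- The Thompson group inside a group into which it embeds, with its subgroups. -/
theorem realize_th {X : Type*} [Group X] {G : Type*} [Group G] {Q : Type*} [Group Q] (f : G →* X)
    (hf : Function.Injective f) (ι : Q →* G) (hι : Function.Injective ι) (L : Subgroup Q)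
    (hG : Cfsg.IsTh G) (hn : ι.range.index = 143127000) (hL : Cfsg.Is3D4 L) :
    ∃ H : Subgroup X, Cfsg.IsTh H ∧ ∃ K : Subgroup H, K.index = 143127000 ∧
      ∃ M : Subgroup H, M ≤ K ∧ Cfsg.Is3D4 M := by
  let e : G ≃* f.range := MonoidHom.ofInjective hf
  let φ : L ≃* (L.map ι).map e.toMonoidHom :=
    (L.equivMapOfInjective _ hι).trans ((L.map ι).equivMapOfInjective e.toMonoidHom e.injective)
  obtain ⟨hs, q, hq, hc⟩ := hL
  exact ⟨f.range, ⟨e.isSimpleGroup_congr.1 hG.1, (Nat.card_congr e.toEquiv).symm.trans hG.2⟩,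
    ι.range.map e.toMonoidHom, (Subgroup.index_map_equiv _ e).trans hn,
    (L.map ι).map e.toMonoidHom, Subgroup.map_mono (Subgroup.map_le_range _ _),
    φ.isSimpleGroup_congr.1 hs, q, hq, (Nat.card_congr φ.toEquiv).symm.trans hc⟩

theorem is3D4_h3d : Cfsg.Is3D4 Th.H3D := ⟨Th.h3d_simple, Th.h3d_order⟩

end Cfsg.Agent.ThMat
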