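import Cfsg.Agent.ThMat.Pack

/-!
# A whole matrix in one number

Row `i` of a matrix of degree `n` occupies the fields `n * i, …, n * i + n - 1`; a product is a sum
of outer products of a masked column and a cut-out row.
-/

set_option autoImplicit false
set_option maxRecDepth 100000

namespace Cfsg.Agent.ThMat

open Cfsg.Agent.CosetCert

attribute [local irreducible] pk maskF

/-- `m` rows of length `n` in one number. -/
def pkR (n : Nat) : Nat → (Nat → Nat → Nat) → Nat
  | 0, _ => 0
  | m + 1, A => pk n (A 0) + 16777216 ^ n * pkR n m fun i => A (i + 1)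

theorem pkR_congr (n : Nat) : ∀ (m : Nat) {A B : Nat → Nat → Nat},
    (∀ i < m, ∀ j < n, A i j = B i j) → pkR n m A = pkR n m B
  | 0, _, _, _ => rfl
  | m + 1, A, B, h => by
    simp only [pkR]
    rw [pk_congr n (h 0 (by omega)), pkR_congr n m fun i hi => h (i + 1) (by omega)]

theorem pkR_zero (n : Nat) : ∀ m : Nat, pkR n m (fun _ _ => 0) = 0
  | 0 => rfl
  | m + 1 => by simp [pkR, pk_zero, pkR_zero n m]

theorem pkR_add (n : Nat) : ∀ (m : Nat) (A B : Nat → Nat → Nat),
    pkR n m A + pkR n m B = pkR n m fun i j => A i j + B i j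
  | 0, _, _ => rfl
  | m + 1, A, B => by simp only [pkR, ← pk_add, ← pkR_add n m]; ring

theorem pkR_lt (n : Nat) : ∀ (m : Nat) (A : Nat → Nat → Nat),
    (∀ i < m, ∀ j < n, A i j < 16777216) → pkR n m A < 16777216 ^ (n * m)
  | 0, _, _ => by simp [pkR]
  | m + 1, A, h => by
    have h0 := pk_lt n (A 0) (h 0 (by omega))
    have h1 := pkR_lt n m (fun i => A (i + 1)) fun i hi => h (i + 1) (by omega)
    simp only [pkR]
    calc pk n (A 0) + 16777216 ^ n * pkR n m (fun i => A (i + 1))
        < 16777216 ^ n * (pkR n m (fun i => A (i + 1)) + 1) := by rw [Nat.mul_succ]; omega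
      _ ≤ 16777216 ^ n * 16777216 ^ (n * m) := Nat.mul_le_mul_left _ h1
      _ = 16777216 ^ (n * (m + 1)) := by rw [← pow_add]; ring_nf

theorem base_shift (n x : Nat) : x >>> (24 * n) = x / 16777216 ^ n := by
  rw [Nat.shiftRight_eq_div_pow, show (2 : Nat) ^ (24 * n) = 16777216 ^ n by rw [pow_mul]; norm_num]

theorem div_low {a n r : Nat} (h : a < 16777216 ^ n) : (a + 16777216 ^ n * r) / 16777216 ^ n = r := by
  rw [Nat.add_mul_div_left _ _ (by positivity), Nat.div_eq_of_lt h, Nat.zero_add]

theorem mod_low {a n r : Nat} (h : a < 16777216 ^ n) : (a + 16777216 ^ n * r) % 16777216 ^ n = a := by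
  rw [Nat.add_mul_mod_self_left, Nat.mod_eq_of_lt h]

/-- The row `l`. -/
theorem row_cut (n : Nat) : ∀ (m : Nat) (A : Nat → Nat → Nat), (∀ i j, A i j < 16777216) →
    ∀ l, l < m → Nat.land (Nat.shiftRight (pkR n m A) (24 * n * l)) (16777216 ^ n - 1) = pk n (A l)
  | 0, _, _, l, hl => absurd hl (Nat.not_lt_zero l)
  | m + 1, A, h, 0, _ => by
    show (pkR n (m + 1) A >>> (24 * n * 0)) &&& (16777216 ^ n - 1) = _
    rw [Nat.mul_zero, Nat.shiftRight_zero,
      show (16777216 : Nat) ^ n = 2 ^ (24 * n) by rw [pow_mul]; norm_num,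
      Nat.and_two_pow_sub_one_eq_mod, show (2 : Nat) ^ (24 * n) = 16777216 ^ n by rw [pow_mul]; norm_num]
    exact mod_low (pk_lt n _ fun j _ => h 0 j)
  | m + 1, A, h, l + 1, hl => by
    have ih := row_cut n m (fun i => A (i + 1)) (fun i j => h (i + 1) j) l (by omega)
    change (pkR n m (fun i => A (i + 1)) >>> (24 * n * l)) &&& (16777216 ^ n - 1) = _ at ih
    show (pkR n (m + 1) A >>> (24 * n * (l + 1))) &&& (16777216 ^ n - 1) = _
    rw [show 24 * n * (l + 1) = 24 * n + 24 * n * l by ring, Nat.shiftRight_add, base_shift n]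
    simp only [pkR]
    rw [div_low (pk_lt n _ fun j _ => h 0 j)]
    exact ih

/-- The mask of the first field of every row. -/
def colMask (n : Nat) : Nat → Nat
  | 0 => 0
  | m + 1 => 3 + 16777216 ^ n * colMask n m

/-- One number in the first field of every row. -/
def colR (n : Nat) : Nat → (Nat → Nat) → Nat
  | 0, _ => 0
  | m + 1, c => c 0 + 16777216 ^ n * colR n m fun i => c (i + 1)

theorem field_mod (k f l : Nat) (g : Nat → Nat) (hg : ∀ j, g j < 16777216) (hl : l < k)
    (hf : f = pk k g) : f / 16777216 ^ l % 16777216 = g l := by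
  subst hf; exact field_pk k g (fun j _ => hg j) l hl

/-- The column `l`. -/
theorem col_cut (n l : Nat) (hn : l < n) : ∀ (m : Nat) (A : Nat → Nat → Nat), (∀ i j, A i j < 4) →
    Nat.land (Nat.shiftRight (pkR n m A) (24 * l)) (colMask n m) = colR n m fun i => A i l
  | 0, _, _ => by simp [pkR, colMask, colR]
  | m + 1, A, h => by
    have h' : ∀ i j, A i j < 16777216 := fun i j => (h i j).trans (by norm_num)
    have ih := col_cut n l hn m (fun i => A (i + 1)) fun i j => h (i + 1) j
    change (pkR n m (fun i => A (i + 1)) >>> (24 * l)) &&& colMask n m = _ at ih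
    show (pkR n (m + 1) A >>> (24 * l)) &&& colMask n (m + 1) = _
    rw [base_shift] at ih ⊢
    simp only [pkR, colMask, colR]
    have ha := pk_lt n (A 0) fun j _ => h' 0 j
    have hfl := field_pk n (A 0) (fun j _ => h' 0 j) l hn
    rw [fieldN] at hfl
    generalize hP : pk n (A 0) = P at ha hfl ⊢
    generalize pkR n m (fun i => A (i + 1)) = R at ih ⊢
    rw [← ih]
    generalize colMask n m = c
    have hp : (16777216 : Nat) ^ n = 2 ^ (24 * n) := by rw [pow_mul]; norm_num
    have hsplit : (16777216 : Nat) ^ n = 16777216 ^ l * 16777216 ^ (n - l) := by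
      rw [← pow_add]; congr 1; omega
    have h4 : 4 ∣ (16777216 : Nat) ^ (n - l) := dvd_pow (by norm_num) (by omega)
    have h4' : 4 ∣ (16777216 : Nat) ^ n := dvd_pow (by norm_num) (by omega)
    generalize hx : (P + 16777216 ^ n * R) / 16777216 ^ l = x
    have hxv : x = P / 16777216 ^ l + 16777216 ^ (n - l) * R := by
      rw [← hx, hsplit, Nat.mul_assoc, Nat.add_mul_div_left _ _ (by positivity)]
    have hx4 : x % 4 = A 0 l := by
      rw [hxv, Nat.add_mod, Nat.mul_mod, Nat.mod_eq_zero_of_dvd h4]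
      simp only [Nat.zero_mul, Nat.zero_mod, Nat.add_zero, Nat.mod_mod]
      have := h 0 l
      omega
    have hxd : x / 16777216 ^ n = R / 16777216 ^ l := by
      rw [← hx, Nat.div_div_eq_div_mul, Nat.mul_comm (16777216 ^ l), ← Nat.div_div_eq_div_mul, div_low ha]
    have e1 : (x &&& (3 + 16777216 ^ n * c)) % 16777216 ^ n = A 0 l := by
      rw [hp, Nat.and_mod_two_pow, ← hp, mod_low (a := 3) (by
        calc (3 : Nat) < 16777216 ^ 1 := by norm_num
          _ ≤ 16777216 ^ n := Nat.pow_le_pow_right (by norm_num) (by omega)),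
        show (3 : Nat) = 2 ^ 2 - 1 by norm_num, Nat.and_two_pow_sub_one_eq_mod,
        show (2 : Nat) ^ 2 = 4 by norm_num, Nat.mod_mod_of_dvd _ h4', hx4]
    have e2 : (x &&& (3 + 16777216 ^ n * c)) / 16777216 ^ n = R / 16777216 ^ l &&& c := by
      rw [hp, Nat.and_div_two_pow, ← hp, hxd, div_low (a := 3) (by
        calc (3 : Nat) < 16777216 ^ 1 := by norm_num
          _ ≤ 16777216 ^ n := Nat.pow_le_pow_right (by norm_num) (by omega))]
    rw [← Nat.mod_add_div (x &&& (3 + 16777216 ^ n * c)) (16777216 ^ n), e1, e2]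

/-- An outer product. -/
theorem colR_mul (n : Nat) (f : Nat → Nat) : ∀ (m : Nat) (c : Nat → Nat),
    colR n m c * pk n f = pkR n m fun i j => c i * f j
  | 0, _ => by simp [colR, pkR]
  | m + 1, c => by simp only [colR, pkR, ← colR_mul n f m, ← pk_mul]; ring

theorem pk_append : ∀ (a b : Nat) (f : Nat → Nat),
    pk (a + b) f = pk a f + 16777216 ^ a * pk b fun i => f (i + a)
  | 0, b, f => by simp [pk]
  | a + 1, b, f => by
    rw [show a + 1 + b = (a + b) + 1 by omega]
    simp only [pk, pk_append a b, show ∀ i, i + a + 1 = i + (a + 1) from fun i => by omega]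
    ring

theorem pkR_flat (n : Nat) : ∀ (m : Nat) (A : Nat → Nat → Nat),
    pkR n m A = pk (n * m) fun k => A (k / n) (k % n)
  | 0, _ => by simp [pkR, pk]
  | m + 1, A => by
    simp only [pkR]
    rw [pkR_flat n m, show n * (m + 1) = n + n * m by ring, pk_append]
    rcases Nat.eq_zero_or_pos n with rfl | hn
    · simp [pk]
    congr 1
    · exact pk_congr n fun j hj => by rw [Nat.div_eq_of_lt hj, Nat.mod_eq_of_lt hj]
    · congr 1
      exact pk_congr _ fun j _ => by rw [Nat.add_div_right _ hn, Nat.add_mod_right]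

theorem maskF_append : ∀ a b : Nat, maskF (a + b) = maskF a + 16777216 ^ a * maskF b
  | 0, b => by simp [maskF]
  | a + 1, b => by
    rw [show a + 1 + b = (a + b) + 1 by omega]
    simp only [maskF, maskF_append a b]; ring

theorem red_pkR (n m : Nat) (A : Nat → Nat → Nat) (h : ∀ i j, A i j < 2048) :
    red (maskF (n * m)) (pkR n m A) = pkR n m fun i j => A i j % 3 := by
  rw [pkR_flat, red_pk _ _ (fun k _ => h _ _), pkR_flat]

theorem pkR_inj (n : Nat) : ∀ (m : Nat) (A B : Nat → Nat → Nat), (∀ i j, A i j < 16777216) →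
    (∀ i j, B i j < 16777216) → pkR n m A = pkR n m B → ∀ i < m, ∀ j < n, A i j = B i j
  | 0, _, _, _, _, _, i, hi => absurd hi (Nat.not_lt_zero i)
  | m + 1, A, B, hA, hB, h, i, hi => by
    simp only [pkR] at h
    have a0 := pk_lt n (A 0) fun j _ => hA 0 j
    have b0 := pk_lt n (B 0) fun j _ => hB 0 j
    have e1 : pk n (A 0) = pk n (B 0) := by
      have := congrArg (· % 16777216 ^ n) h
      simpa [mod_low a0, mod_low b0] using this
    have e2 : pkR n m (fun i => A (i + 1)) = pkR n m (fun i => B (i + 1)) := by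
      have := congrArg (· / 16777216 ^ n) h
      simpa [div_low a0, div_low b0] using this
    intro j hj
    rcases i with _ | i
    · rw [← field_pk n (A 0) (fun j _ => hA 0 j) j hj, e1, field_pk n (B 0) (fun j _ => hB 0 j) j hj]
    · exact pkR_inj n m _ _ (fun i j => hA _ j) (fun i j => hB _ j) e2 i (by omega) j hj

end Cfsg.Agent.ThMat
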