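import Cfsg.Agent.ThMat.Maps

/-! Generated: kernel checks of relators in degree 248, 62 rows at a time. -/

set_option Elab.async false
set_option maxRecDepth 100000

namespace Cfsg.Agent.ThMat

theorem th13_0 : relC (lits.getD 13 []) 0 = true := by decide +kernel

theorem th13_1 : relC (lits.getD 13 []) 62 = true := by decide +kernel

theorem th13_2 : relC (lits.getD 13 []) 124 = true := by decide +kernel

theorem th13_3 : relC (lits.getD 13 []) 186 = true := by decide +kernel

theorem th13 : ∀ c < 4, relC (lits.getD 13 []) (62 * c) = true :=
  rel_all th13_0 th13_1 th13_2 th13_3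

theorem th1_0 : relC (lits.getD 1 []) 0 = true := by decide +kernel

theorem th1_1 : relC (lits.getD 1 []) 62 = true := by decide +kernel

theorem th1_2 : relC (lits.getD 1 []) 124 = true := by decide +kernel

theorem th1_3 : relC (lits.getD 1 []) 186 = true := by decide +kernel

theorem th1 : ∀ c < 4, relC (lits.getD 1 []) (62 * c) = true :=
  rel_all th1_0 th1_1 th1_2 th1_3

theorem inv1_0 : relC [6, 9] 0 = true := by decide +kernel

theorem inv1_1 : relC [6, 9] 62 = true := by decide +kernel

theorem inv1_2 : relC [6, 9] 124 = true := by decide +kernel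

theorem inv1_3 : relC [6, 9] 186 = true := by decide +kernel

theorem inv1 : ∀ c < 4, relC [6, 9] (62 * c) = true :=
  rel_all inv1_0 inv1_1 inv1_2 inv1_3

end Cfsg.Agent.ThMat
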