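import Cfsg.Agent.ThMat.Maps

/-! Generated: kernel checks of relators in degree 248, 62 rows at a time. -/

set_option Elab.async false
set_option maxRecDepth 100000

namespace Cfsg.Agent.ThMat

theorem th33_0 : relC (lits.getD 33 []) 0 = true := by decide +kernel

theorem th33_1 : relC (lits.getD 33 []) 62 = true := by decide +kernel

theorem th33_2 : relC (lits.getD 33 []) 124 = true := by decide +kernel

theorem th33_3 : relC (lits.getD 33 []) 186 = true := by decide +kernel

theorem th33 : ∀ c < 4, relC (lits.getD 33 []) (62 * c) = true :=
  rel_all th33_0 th33_1 th33_2 th33_3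

theorem th21_0 : relC (lits.getD 21 []) 0 = true := by decide +kernel

theorem th21_1 : relC (lits.getD 21 []) 62 = true := by decide +kernel

theorem th21_2 : relC (lits.getD 21 []) 124 = true := by decide +kernel

theorem th21_3 : relC (lits.getD 21 []) 186 = true := by decide +kernel

theorem th21 : ∀ c < 4, relC (lits.getD 21 []) (62 * c) = true :=
  rel_all th21_0 th21_1 th21_2 th21_3

theorem th25_0 : relC (lits.getD 25 []) 0 = true := by decide +kernel

theorem th25_1 : relC (lits.getD 25 []) 62 = true := by decide +kernel

theorem th25_2 : relC (lits.getD 25 []) 124 = true := by decide +kernel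

theorem th25_3 : relC (lits.getD 25 []) 186 = true := by decide +kernel

theorem th25 : ∀ c < 4, relC (lits.getD 25 []) (62 * c) = true :=
  rel_all th25_0 th25_1 th25_2 th25_3

theorem th30_0 : relC (lits.getD 30 []) 0 = true := by decide +kernel

theorem th30_1 : relC (lits.getD 30 []) 62 = true := by decide +kernel

theorem th30_2 : relC (lits.getD 30 []) 124 = true := by decide +kernel

theorem th30_3 : relC (lits.getD 30 []) 186 = true := by decide +kernel

theorem th30 : ∀ c < 4, relC (lits.getD 30 []) (62 * c) = true :=
  rel_all th30_0 th30_1 th30_2 th30_3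

theorem th2_0 : relC (lits.getD 2 []) 0 = true := by decide +kernel

theorem th2_1 : relC (lits.getD 2 []) 62 = true := by decide +kernel

theorem th2_2 : relC (lits.getD 2 []) 124 = true := by decide +kernel

theorem th2_3 : relC (lits.getD 2 []) 186 = true := by decide +kernel

theorem th2 : ∀ c < 4, relC (lits.getD 2 []) (62 * c) = true :=
  rel_all th2_0 th2_1 th2_2 th2_3

theorem inv2_0 : relC [7, 10] 0 = true := by decide +kernel

theorem inv2_1 : relC [7, 10] 62 = true := by decide +kernel

theorem inv2_2 : relC [7, 10] 124 = true := by decide +kernel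

theorem inv2_3 : relC [7, 10] 186 = true := by decide +kernel

theorem inv2 : ∀ c < 4, relC [7, 10] (62 * c) = true :=
  rel_all inv2_0 inv2_1 inv2_2 inv2_3

end Cfsg.Agent.ThMat
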