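import Cfsg.Agent.ThMat.Maps

/-! Generated: kernel checks of relators in degree 248, 62 rows at a time. -/

set_option Elab.async false
set_option maxRecDepth 100000

namespace Cfsg.Agent.ThMat

theorem th37_0 : relC (lits.getD 37 []) 0 = true := by decide +kernel

theorem th37_1 : relC (lits.getD 37 []) 62 = true := by decide +kernel

theorem th37_2 : relC (lits.getD 37 []) 124 = true := by decide +kernel

theorem th37_3 : relC (lits.getD 37 []) 186 = true := by decide +kernel

theorem th37 : ∀ c < 4, relC (lits.getD 37 []) (62 * c) = true :=
  rel_all th37_0 th37_1 th37_2 th37_3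

theorem th19_0 : relC (lits.getD 19 []) 0 = true := by decide +kernel

theorem th19_1 : relC (lits.getD 19 []) 62 = true := by decide +kernel

theorem th19_2 : relC (lits.getD 19 []) 124 = true := by decide +kernel

theorem th19_3 : relC (lits.getD 19 []) 186 = true := by decide +kernel

theorem th19 : ∀ c < 4, relC (lits.getD 19 []) (62 * c) = true :=
  rel_all th19_0 th19_1 th19_2 th19_3

theorem th5_0 : relC (lits.getD 5 []) 0 = true := by decide +kernel

theorem th5_1 : relC (lits.getD 5 []) 62 = true := by decide +kernel

theorem th5_2 : relC (lits.getD 5 []) 124 = true := by decide +kernel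

theorem th5_3 : relC (lits.getD 5 []) 186 = true := by decide +kernel

theorem th5 : ∀ c < 4, relC (lits.getD 5 []) (62 * c) = true :=
  rel_all th5_0 th5_1 th5_2 th5_3

theorem th26_0 : relC (lits.getD 26 []) 0 = true := by decide +kernel

theorem th26_1 : relC (lits.getD 26 []) 62 = true := by decide +kernel

theorem th26_2 : relC (lits.getD 26 []) 124 = true := by decide +kernel

theorem th26_3 : relC (lits.getD 26 []) 186 = true := by decide +kernel

theorem th26 : ∀ c < 4, relC (lits.getD 26 []) (62 * c) = true :=
  rel_all th26_0 th26_1 th26_2 th26_3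

theorem th9_0 : relC (lits.getD 9 []) 0 = true := by decide +kernel

theorem th9_1 : relC (lits.getD 9 []) 62 = true := by decide +kernel

theorem th9_2 : relC (lits.getD 9 []) 124 = true := by decide +kernel

theorem th9_3 : relC (lits.getD 9 []) 186 = true := by decide +kernel

theorem th9 : ∀ c < 4, relC (lits.getD 9 []) (62 * c) = true :=
  rel_all th9_0 th9_1 th9_2 th9_3

theorem th16_0 : relC (lits.getD 16 []) 0 = true := by decide +kernel

theorem th16_1 : relC (lits.getD 16 []) 62 = true := by decide +kernel

theorem th16_2 : relC (lits.getD 16 []) 124 = true := by decide +kernel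

theorem th16_3 : relC (lits.getD 16 []) 186 = true := by decide +kernel

theorem th16 : ∀ c < 4, relC (lits.getD 16 []) (62 * c) = true :=
  rel_all th16_0 th16_1 th16_2 th16_3

theorem th22_0 : relC (lits.getD 22 []) 0 = true := by decide +kernel

theorem th22_1 : relC (lits.getD 22 []) 62 = true := by decide +kernel

theorem th22_2 : relC (lits.getD 22 []) 124 = true := by decide +kernel

theorem th22_3 : relC (lits.getD 22 []) 186 = true := by decide +kernel

theorem th22 : ∀ c < 4, relC (lits.getD 22 []) (62 * c) = true :=
  rel_all th22_0 th22_1 th22_2 th22_3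

theorem th27_0 : relC (lits.getD 27 []) 0 = true := by decide +kernel

theorem th27_1 : relC (lits.getD 27 []) 62 = true := by decide +kernel

theorem th27_2 : relC (lits.getD 27 []) 124 = true := by decide +kernel

theorem th27_3 : relC (lits.getD 27 []) 186 = true := by decide +kernel

theorem th27 : ∀ c < 4, relC (lits.getD 27 []) (62 * c) = true :=
  rel_all th27_0 th27_1 th27_2 th27_3

theorem th34_0 : relC (lits.getD 34 []) 0 = true := by decide +kernel

theorem th34_1 : relC (lits.getD 34 []) 62 = true := by decide +kernel

theorem th34_2 : relC (lits.getD 34 []) 124 = true := by decide +kernel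

theorem th34_3 : relC (lits.getD 34 []) 186 = true := by decide +kernel

theorem th34 : ∀ c < 4, relC (lits.getD 34 []) (62 * c) = true :=
  rel_all th34_0 th34_1 th34_2 th34_3

theorem th3_0 : relC (lits.getD 3 []) 0 = true := by decide +kernel

theorem th3_1 : relC (lits.getD 3 []) 62 = true := by decide +kernel

theorem th3_2 : relC (lits.getD 3 []) 124 = true := by decide +kernel

theorem th3_3 : relC (lits.getD 3 []) 186 = true := by decide +kernel

theorem th3 : ∀ c < 4, relC (lits.getD 3 []) (62 * c) = true :=
  rel_all th3_0 th3_1 th3_2 th3_3

theorem inv3_0 : relC [8, 5] 0 = true := by decide +kernel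

theorem inv3_1 : relC [8, 5] 62 = true := by decide +kernel

theorem inv3_2 : relC [8, 5] 124 = true := by decide +kernel

theorem inv3_3 : relC [8, 5] 186 = true := by decide +kernel

theorem inv3 : ∀ c < 4, relC [8, 5] (62 * c) = true :=
  rel_all inv3_0 inv3_1 inv3_2 inv3_3

end Cfsg.Agent.ThMat
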