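import Cfsg.Agent.ThMat.Maps

/-! Generated: kernel checks of relators in degree 248, 62 rows at a time. -/

set_option Elab.async false
set_option maxRecDepth 100000

namespace Cfsg.Agent.ThMat

theorem th35_0 : relC (lits.getD 35 []) 0 = true := by decide +kernel

theorem th35_1 : relC (lits.getD 35 []) 62 = true := by decide +kernel

theorem th35_2 : relC (lits.getD 35 []) 124 = true := by decide +kernel

theorem th35_3 : relC (lits.getD 35 []) 186 = true := by decide +kernel

theorem th35 : ∀ c < 4, relC (lits.getD 35 []) (62 * c) = true :=
  rel_all th35_0 th35_1 th35_2 th35_3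

theorem th10_0 : relC (lits.getD 10 []) 0 = true := by decide +kernel

theorem th10_1 : relC (lits.getD 10 []) 62 = true := by decide +kernel

theorem th10_2 : relC (lits.getD 10 []) 124 = true := by decide +kernel

theorem th10_3 : relC (lits.getD 10 []) 186 = true := by decide +kernel

theorem th10 : ∀ c < 4, relC (lits.getD 10 []) (62 * c) = true :=
  rel_all th10_0 th10_1 th10_2 th10_3

theorem th36_0 : relC (lits.getD 36 []) 0 = true := by decide +kernel

theorem th36_1 : relC (lits.getD 36 []) 62 = true := by decide +kernel

theorem th36_2 : relC (lits.getD 36 []) 124 = true := by decide +kernel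

theorem th36_3 : relC (lits.getD 36 []) 186 = true := by decide +kernel

theorem th36 : ∀ c < 4, relC (lits.getD 36 []) (62 * c) = true :=
  rel_all th36_0 th36_1 th36_2 th36_3

theorem th12_0 : relC (lits.getD 12 []) 0 = true := by decide +kernel

theorem th12_1 : relC (lits.getD 12 []) 62 = true := by decide +kernel

theorem th12_2 : relC (lits.getD 12 []) 124 = true := by decide +kernel

theorem th12_3 : relC (lits.getD 12 []) 186 = true := by decide +kernel

theorem th12 : ∀ c < 4, relC (lits.getD 12 []) (62 * c) = true :=
  rel_all th12_0 th12_1 th12_2 th12_3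

theorem th8_0 : relC (lits.getD 8 []) 0 = true := by decide +kernel

theorem th8_1 : relC (lits.getD 8 []) 62 = true := by decide +kernel

theorem th8_2 : relC (lits.getD 8 []) 124 = true := by decide +kernel

theorem th8_3 : relC (lits.getD 8 []) 186 = true := by decide +kernel

theorem th8 : ∀ c < 4, relC (lits.getD 8 []) (62 * c) = true :=
  rel_all th8_0 th8_1 th8_2 th8_3

theorem th15_0 : relC (lits.getD 15 []) 0 = true := by decide +kernel

theorem th15_1 : relC (lits.getD 15 []) 62 = true := by decide +kernel

theorem th15_2 : relC (lits.getD 15 []) 124 = true := by decide +kernel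

theorem th15_3 : relC (lits.getD 15 []) 186 = true := by decide +kernel

theorem th15 : ∀ c < 4, relC (lits.getD 15 []) (62 * c) = true :=
  rel_all th15_0 th15_1 th15_2 th15_3

theorem th18_0 : relC (lits.getD 18 []) 0 = true := by decide +kernel

theorem th18_1 : relC (lits.getD 18 []) 62 = true := by decide +kernel

theorem th18_2 : relC (lits.getD 18 []) 124 = true := by decide +kernel

theorem th18_3 : relC (lits.getD 18 []) 186 = true := by decide +kernel

theorem th18 : ∀ c < 4, relC (lits.getD 18 []) (62 * c) = true :=
  rel_all th18_0 th18_1 th18_2 th18_3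

theorem th24_0 : relC (lits.getD 24 []) 0 = true := by decide +kernel

theorem th24_1 : relC (lits.getD 24 []) 62 = true := by decide +kernel

theorem th24_2 : relC (lits.getD 24 []) 124 = true := by decide +kernel

theorem th24_3 : relC (lits.getD 24 []) 186 = true := by decide +kernel

theorem th24 : ∀ c < 4, relC (lits.getD 24 []) (62 * c) = true :=
  rel_all th24_0 th24_1 th24_2 th24_3

theorem th29_0 : relC (lits.getD 29 []) 0 = true := by decide +kernel

theorem th29_1 : relC (lits.getD 29 []) 62 = true := by decide +kernel

theorem th29_2 : relC (lits.getD 29 []) 124 = true := by decide +kernel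

theorem th29_3 : relC (lits.getD 29 []) 186 = true := by decide +kernel

theorem th29 : ∀ c < 4, relC (lits.getD 29 []) (62 * c) = true :=
  rel_all th29_0 th29_1 th29_2 th29_3

theorem th0_0 : relC (lits.getD 0 []) 0 = true := by decide +kernel

theorem th0_1 : relC (lits.getD 0 []) 62 = true := by decide +kernel

theorem th0_2 : relC (lits.getD 0 []) 124 = true := by decide +kernel

theorem th0_3 : relC (lits.getD 0 []) 186 = true := by decide +kernel

theorem th0 : ∀ c < 4, relC (lits.getD 0 []) (62 * c) = true :=
  rel_all th0_0 th0_1 th0_2 th0_3

theorem th4_0 : relC (lits.getD 4 []) 0 = true := by decide +kernel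

theorem th4_1 : relC (lits.getD 4 []) 62 = true := by decide +kernel

theorem th4_2 : relC (lits.getD 4 []) 124 = true := by decide +kernel

theorem th4_3 : relC (lits.getD 4 []) 186 = true := by decide +kernel

theorem th4 : ∀ c < 4, relC (lits.getD 4 []) (62 * c) = true :=
  rel_all th4_0 th4_1 th4_2 th4_3

theorem inv4_0 : relC [9, 6] 0 = true := by decide +kernel

theorem inv4_1 : relC [9, 6] 62 = true := by decide +kernel

theorem inv4_2 : relC [9, 6] 124 = true := by decide +kernel

theorem inv4_3 : relC [9, 6] 186 = true := by decide +kernel

theorem inv4 : ∀ c < 4, relC [9, 6] (62 * c) = true :=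
  rel_all inv4_0 inv4_1 inv4_2 inv4_3

end Cfsg.Agent.ThMat
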