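import Cfsg.Agent.ThMat.Maps

/-! Generated: kernel checks of relators in degree 248, 62 rows at a time. -/

set_option Elab.async false
set_option maxRecDepth 100000

namespace Cfsg.Agent.ThMat

theorem th32_0 : relC (lits.getD 32 []) 0 = true := by decide +kernel

theorem th32_1 : relC (lits.getD 32 []) 62 = true := by decide +kernel

theorem th32_2 : relC (lits.getD 32 []) 124 = true := by decide +kernel

theorem th32_3 : relC (lits.getD 32 []) 186 = true := by decide +kernel

theorem th32 : ∀ c < 4, relC (lits.getD 32 []) (62 * c) = true :=
  rel_all th32_0 th32_1 th32_2 th32_3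

theorem th31_0 : relC (lits.getD 31 []) 0 = true := by decide +kernel

theorem th31_1 : relC (lits.getD 31 []) 62 = true := by decide +kernel

theorem th31_2 : relC (lits.getD 31 []) 124 = true := by decide +kernel

theorem th31_3 : relC (lits.getD 31 []) 186 = true := by decide +kernel

theorem th31 : ∀ c < 4, relC (lits.getD 31 []) (62 * c) = true :=
  rel_all th31_0 th31_1 th31_2 th31_3

theorem th14_0 : relC (lits.getD 14 []) 0 = true := by decide +kernel

theorem th14_1 : relC (lits.getD 14 []) 62 = true := by decide +kernel

theorem th14_2 : relC (lits.getD 14 []) 124 = true := by decide +kernel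

theorem th14_3 : relC (lits.getD 14 []) 186 = true := by decide +kernel

theorem th14 : ∀ c < 4, relC (lits.getD 14 []) (62 * c) = true :=
  rel_all th14_0 th14_1 th14_2 th14_3

theorem th7_0 : relC (lits.getD 7 []) 0 = true := by decide +kernel

theorem th7_1 : relC (lits.getD 7 []) 62 = true := by decide +kernel

theorem th7_2 : relC (lits.getD 7 []) 124 = true := by decide +kernel

theorem th7_3 : relC (lits.getD 7 []) 186 = true := by decide +kernel

theorem th7 : ∀ c < 4, relC (lits.getD 7 []) (62 * c) = true :=
  rel_all th7_0 th7_1 th7_2 th7_3

theorem th6_0 : relC (lits.getD 6 []) 0 = true := by decide +kernel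

theorem th6_1 : relC (lits.getD 6 []) 62 = true := by decide +kernel

theorem th6_2 : relC (lits.getD 6 []) 124 = true := by decide +kernel

theorem th6_3 : relC (lits.getD 6 []) 186 = true := by decide +kernel

theorem th6 : ∀ c < 4, relC (lits.getD 6 []) (62 * c) = true :=
  rel_all th6_0 th6_1 th6_2 th6_3

theorem th11_0 : relC (lits.getD 11 []) 0 = true := by decide +kernel

theorem th11_1 : relC (lits.getD 11 []) 62 = true := by decide +kernel

theorem th11_2 : relC (lits.getD 11 []) 124 = true := by decide +kernel

theorem th11_3 : relC (lits.getD 11 []) 186 = true := by decide +kernel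

theorem th11 : ∀ c < 4, relC (lits.getD 11 []) (62 * c) = true :=
  rel_all th11_0 th11_1 th11_2 th11_3

theorem th17_0 : relC (lits.getD 17 []) 0 = true := by decide +kernel

theorem th17_1 : relC (lits.getD 17 []) 62 = true := by decide +kernel

theorem th17_2 : relC (lits.getD 17 []) 124 = true := by decide +kernel

theorem th17_3 : relC (lits.getD 17 []) 186 = true := by decide +kernel

theorem th17 : ∀ c < 4, relC (lits.getD 17 []) (62 * c) = true :=
  rel_all th17_0 th17_1 th17_2 th17_3

theorem th23_0 : relC (lits.getD 23 []) 0 = true := by decide +kernel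

theorem th23_1 : relC (lits.getD 23 []) 62 = true := by decide +kernel

theorem th23_2 : relC (lits.getD 23 []) 124 = true := by decide +kernel

theorem th23_3 : relC (lits.getD 23 []) 186 = true := by decide +kernel

theorem th23 : ∀ c < 4, relC (lits.getD 23 []) (62 * c) = true :=
  rel_all th23_0 th23_1 th23_2 th23_3

theorem th28_0 : relC (lits.getD 28 []) 0 = true := by decide +kernel

theorem th28_1 : relC (lits.getD 28 []) 62 = true := by decide +kernel

theorem th28_2 : relC (lits.getD 28 []) 124 = true := by decide +kernel

theorem th28_3 : relC (lits.getD 28 []) 186 = true := by decide +kernel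

theorem th28 : ∀ c < 4, relC (lits.getD 28 []) (62 * c) = true :=
  rel_all th28_0 th28_1 th28_2 th28_3

theorem th20_0 : relC (lits.getD 20 []) 0 = true := by decide +kernel

theorem th20_1 : relC (lits.getD 20 []) 62 = true := by decide +kernel

theorem th20_2 : relC (lits.getD 20 []) 124 = true := by decide +kernel

theorem th20_3 : relC (lits.getD 20 []) 186 = true := by decide +kernel

theorem th20 : ∀ c < 4, relC (lits.getD 20 []) (62 * c) = true :=
  rel_all th20_0 th20_1 th20_2 th20_3

theorem inv0_0 : relC [5, 8] 0 = true := by decide +kernel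

theorem inv0_1 : relC [5, 8] 62 = true := by decide +kernel

theorem inv0_2 : relC [5, 8] 124 = true := by decide +kernel

theorem inv0_3 : relC [5, 8] 186 = true := by decide +kernel

theorem inv0 : ∀ c < 4, relC [5, 8] (62 * c) = true :=
  rel_all inv0_0 inv0_1 inv0_2 inv0_3

theorem inv5_0 : relC [10, 7] 0 = true := by decide +kernel

theorem inv5_1 : relC [10, 7] 62 = true := by decide +kernel

theorem inv5_2 : relC [10, 7] 124 = true := by decide +kernel

theorem inv5_3 : relC [10, 7] 186 = true := by decide +kernel

theorem inv5 : ∀ c < 4, relC [10, 7] (62 * c) = true :=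
  rel_all inv5_0 inv5_1 inv5_2 inv5_3

end Cfsg.Agent.ThMat
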