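import Cfsg.Agent.ThMat.Check0
import Cfsg.Agent.ThMat.Check1
import Cfsg.Agent.ThMat.Check2
import Cfsg.Agent.ThMat.Check3
import Cfsg.Agent.ThMat.Check4
import Cfsg.Agent.ThMat.Check5

/-! Generated: the checks, combined. -/

set_option maxRecDepth 100000

namespace Cfsg.Agent.ThMat

theorem th_all : ∀ k, k < 39 → ∀ c < 4, relC (lits.getD k []) (62 * c) = true
  | 0, _ => th0
  | 1, _ => th1
  | 2, _ => th2
  | 3, _ => th3
  | 4, _ => th4
  | 5, _ => th5
  | 6, _ => th6
  | 7, _ => th7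
  | 8, _ => th8
  | 9, _ => th9
  | 10, _ => th10
  | 11, _ => th11
  | 12, _ => th12
  | 13, _ => th13
  | 14, _ => th14
  | 15, _ => th15
  | 16, _ => th16
  | 17, _ => th17
  | 18, _ => th18
  | 19, _ => th19
  | 20, _ => th20
  | 21, _ => th21
  | 22, _ => th22
  | 23, _ => th23
  | 24, _ => th24
  | 25, _ => th25
  | 26, _ => th26
  | 27, _ => th27
  | 28, _ => th28
  | 29, _ => th29
  | 30, _ => th30
  | 31, _ => th31
  | 32, _ => th32
  | 33, _ => th33
  | 34, _ => th34
  | 35, _ => th35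
  | 36, _ => th36
  | 37, _ => th37
  | 38, _ => th38
  | n + 39, h => absurd h (by omega)

end Cfsg.Agent.ThMat
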