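import Cfsg.Agent.ThMat.Maps

/-! Generated: kernel checks of relators in degree 248, 62 rows at a time. -/

set_option Elab.async false
set_option maxRecDepth 100000

namespace Cfsg.Agent.ThMat

theorem th38_0 : relC (lits.getD 38 []) 0 = true := by decide +kernel

theorem th38_1 : relC (lits.getD 38 []) 62 = true := by decide +kernel

theorem th38_2 : relC (lits.getD 38 []) 124 = true := by decide +kernel

theorem th38_3 : relC (lits.getD 38 []) 186 = true := by decide +kernel

theorem th38 : ∀ c < 4, relC (lits.getD 38 []) (62 * c) = true :=
  rel_all th38_0 th38_1 th38_2 th38_3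

end Cfsg.Agent.ThMat
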