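import Cfsg.Prelude.Def_Spor_Th

/-! Letters for the Thompson generators: 8, 9, 10 are the inverses of s, t, u. -/

namespace Cfsg.Agent.ThMat

open Cfsg.Spor

/-- The number of a signed generator. -/
def code : Th.Gen × Bool → Nat
  | (.a, _) => 0
  | (.b, _) => 1
  | (.c, _) => 2
  | (.d, _) => 3
  | (.e, _) => 4
  | (.s, true) => 5
  | (.s, false) => 8
  | (.t, true) => 6
  | (.t, false) => 9
  | (.u, true) => 7
  | (.u, false) => 10

end Cfsg.Agent.ThMat
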