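import Cfsg.Agent.ThMat.Orbit

/-! Collecting the images. -/

set_option autoImplicit false

namespace Cfsg.Agent.ThMat

open Cfsg.Agent.CosetCert

/-- The image numbered `k` is as stated. -/
def edgeP (L : Lev) (k : Nat) : Prop :=
  rowW mask248 mth (L.gens.getD (k % L.ng) []) (L.pts.getD (k / L.ng) 0) = L.pts.getD (L.tgt.getD k 0) 0

theorem edge_nil (L : Lev) : ∀ k < 0, edgeP L k := fun _ h => absurd h (Nat.not_lt_zero _)

theorem edge_cons {L : Lev} {a n : Nat} (h : ∀ k < a, edgeP L k) (hc : edgeC L a n = true) :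
    ∀ k < a + n, edgeP L k := by
  intro k hk
  by_cases hka : k < a
  · exact h k hka
  · exact Nat.eq_of_beq_eq_true ((allFrom_iff _ a n).1 hc k (by omega) hk)

end Cfsg.Agent.ThMat
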