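import Mathlib

/-!
# Orbits of matrix groups on row vectors
-/

set_option autoImplicit false

namespace Cfsg.Agent.ThMat

open Matrix

variable {n R : Type*} [Fintype n] [DecidableEq n] [CommRing R]

/-- Rows, on which matrices act from the right by inverses. -/
def RowV (n R : Type*) : Type _ := n → R

/-- The action on rows. -/
instance rowVAct : MulAction (GL n R) (RowV n R) where
  smul g x := (show n → R from x) ᵥ* ((g⁻¹ : GL n R) : Matrix n n R)
  one_smul x := by
    show (show n → R from x) ᵥ* (((1 : GL n R)⁻¹ : GL n R) : Matrix n n R) = x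
    rw [inv_one, Units.val_one, vecMul_one]
  mul_smul g h x := by
    show (show n → R from x) ᵥ* (((g * h)⁻¹ : GL n R) : Matrix n n R) =
      (show n → R from x) ᵥ* ((h⁻¹ : GL n R) : Matrix n n R) ᵥ* ((g⁻¹ : GL n R) : Matrix n n R)
    rw [vecMul_vecMul, _root_.mul_inv_rev, Units.val_mul]

/-- If `X` is the orbit of `v` under the group generated by `S`, then its size times the order of a
subgroup fixing `v` divides the order of the group. -/
theorem orbit_mul_dvd (S : Set (GL n R)) {K : Subgroup (GL n R)} (hK : K ≤ Subgroup.closure S)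
    (v : n → R) (hfix : ∀ g ∈ K, v ᵥ* (g : Matrix n n R) = v) (X : Finset (n → R)) (hv : v ∈ X)
    (hclosed : ∀ g ∈ S, ∀ x ∈ X, x ᵥ* (g : Matrix n n R) ∈ X)
    (hreach : ∀ x ∈ X, ∃ g ∈ Subgroup.closure S, v ᵥ* (g : Matrix n n R) = x) :
    X.card * Nat.card K ∣ Nat.card (Subgroup.closure S) := by
  classical
  have hact : ∀ (g : GL n R) (x : n → R),
      g⁻¹ • (show RowV n R from x) = (show RowV n R from x ᵥ* (g : Matrix n n R)) := fun g x => by
    show x ᵥ* ((g⁻¹⁻¹ : GL n R) : Matrix n n R) = _
    rw [inv_inv]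
  set G := Subgroup.closure S with hG
  let Y : Finset (RowV n R) := X
  have hiff : ∀ g ∈ G, ∀ x : RowV n R, g • x ∈ Y ↔ x ∈ Y := by
    intro g hg
    induction hg using Subgroup.closure_induction with
    | mem g hg =>
      have hmap : ∀ x ∈ Y, g⁻¹ • x ∈ Y := fun x hx => by rw [hact g x]; exact hclosed g hg x hx
      have himg : Y.image (g⁻¹ • ·) = Y :=
        Finset.eq_of_subset_of_card_le (fun y hy => by
          obtain ⟨x, hx, rfl⟩ := Finset.mem_image.1 hy; exact hmap x hx)
          (Finset.card_image_of_injective _ (MulAction.injective g⁻¹)).ge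
      intro x
      refine ⟨fun h => by simpa using hmap _ h, fun h => ?_⟩
      rw [← himg] at h
      obtain ⟨y, hy, rfl⟩ := Finset.mem_image.1 h
      simpa using hy
    | one => intro x; rw [one_smul]
    | mul g h _ _ ihg ihh => intro x; rw [mul_smul, ihg, ihh]
    | inv g _ ih =>
      intro x
      rw [← ih (g⁻¹ • x), smul_inv_smul]
  have horb : MulAction.orbit G (show RowV n R from v) = (Y : Set (RowV n R)) := by
    ext x
    constructor
    · rintro ⟨⟨g, hg⟩, rfl⟩
      exact (hiff g hg _).2 hv
    · intro hx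
      obtain ⟨g, hg, rfl⟩ := hreach x hx
      exact ⟨⟨g⁻¹, inv_mem hg⟩, hact g v⟩
  have hc := Nat.card_congr (MulAction.orbitProdStabilizerEquivGroup G (show RowV n R from v))
  rw [Nat.card_prod, horb] at hc
  rw [← hc, show Nat.card (Y : Set (RowV n R)) = X.card from Nat.card_eq_finsetCard Y]
  refine Nat.mul_dvd_mul_left _ ?_
  refine Subgroup.card_dvd_of_injective
    (⟨⟨fun x => ⟨⟨(x : GL n R), hK x.2⟩, ?_⟩, rfl⟩, fun _ _ => rfl⟩ :
      K →* MulAction.stabilizer G (show RowV n R from v)) fun x y e => ?_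
  · show (x : GL n R) • (show RowV n R from v) = _
    have h := hact (x : GL n R)⁻¹ v
    rw [inv_inv, hfix _ (inv_mem x.2)] at h
    exact h
  · exact Subtype.ext (congrArg (fun z : MulAction.stabilizer G (show RowV n R from v) => ((z : G) : GL n R)) e)

end Cfsg.Agent.ThMat
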