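import Cfsg.Agent.ThMat.Rep
import Cfsg.Agent.ThMat.Edge
import Cfsg.Agent.ThMat.Orbital

/-!
# The order of a group from orbits on vectors
-/

set_option autoImplicit false
set_option maxRecDepth 100000
set_option maxHeartbeats 200000

namespace Cfsg.Agent.ThMat

attribute [local irreducible] pk maskF pkR mV mth uV rowW

/-- The value of a word. -/
noncomputable def wU (w : List Nat) : GL (Fin 248) (ZMod 3) := (w.map uV).prod

theorem coe_wU : ∀ {w : List Nat}, (∀ x ∈ w, x < 11) →
    (wU w : Matrix (Fin 248) (Fin 248) (ZMod 3)) = (w.map mV).prod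
  | [], _ => rfl
  | x :: w, h => by
    have ih := coe_wU (w := w) fun y hy => h y (List.mem_cons_of_mem _ hy)
    simp only [wU, List.map_cons, List.prod_cons, Units.val_mul] at ih ⊢
    rw [ih, coe_uV (h x List.mem_cons_self)]

theorem wU_inv : ∀ {w : List Nat}, (∀ x ∈ w, x < 11) → wU (w.reverse.map invL) = (wU w)⁻¹
  | [], _ => by simp [wU]
  | x :: w, h => by
    have ih := wU_inv (w := w) fun y hy => h y (List.mem_cons_of_mem _ hy)
    simp only [wU, List.reverse_cons, List.map_append, List.prod_append, List.map_cons, List.map_nil,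
      List.prod_cons, List.prod_nil, mul_one, mul_inv_rev] at ih ⊢
    rw [ih, uV_invL (h x List.mem_cons_self)]

theorem wU_append (a b : List Nat) : wU (a ++ b) = wU a * wU b := by simp [wU]

/-- The group of a level. -/
noncomputable def Lev.grp (L : Lev) : Subgroup (GL (Fin 248) (ZMod 3)) :=
  Subgroup.closure {g | ∃ w ∈ L.gens, wU w = g}

/-- The meaning of the checks of a level. -/
structure LevOK (L : Lev) : Prop where
  ng_pos : 0 < L.ng
  pts_pos : 0 < L.pts.length
  tgt_lt : ∀ k < L.pts.length * L.ng, L.tgt.getD k 0 < L.pts.length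
  nodup : L.pts.Nodup
  row : ∀ r ∈ L.pts, RowOK r
  letters : ∀ g ∈ L.gens, ∀ x ∈ g, x < 11
  par : ∀ i, i + 1 < L.pts.length → ∃ k < L.pts.length * L.ng, L.tgt.getD k 0 = i + 1 ∧ k / L.ng < i + 1
  edge : ∀ k < L.pts.length * L.ng, edgeP L k

theorem freshC_sound : ∀ (l : List Nat) (acc : Nat), freshC l acc = true →
    l.Nodup ∧ ∀ p ∈ l, acc.testBit (p % 65521) = false
  | [], _, _ => ⟨List.nodup_nil, fun _ h => absurd h List.not_mem_nil⟩
  | p :: l, acc, h => by
    change Cfsg.Agent.CosetCert.force (p % 65521) (fun k => Cfsg.Agent.CosetCert.gate (Nat.beq (Nat.land 1 (Nat.shiftRight acc k)) 0)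
      (Cfsg.Agent.CosetCert.force (Nat.lor acc (2 ^ k)) fun a => freshC l a)) = true at h
    simp only [Cfsg.Agent.CosetCert.force_eq, Cfsg.Agent.CosetCert.gate_eq, Bool.and_eq_true] at h
    obtain ⟨hb, hl⟩ := h
    obtain ⟨hnd, ha⟩ := freshC_sound l _ hl
    have hb' : 1 &&& (acc >>> (p % 65521)) = 0 := Nat.eq_of_beq_eq_true hb
    have hp : acc.testBit (p % 65521) = false := by simp [Nat.testBit, hb']
    have hor : ∀ q ∈ l, acc.testBit (q % 65521) = false ∧ p % 65521 ≠ q % 65521 := fun q hq => by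
      have := ha q hq
      rw [show Nat.lor acc (2 ^ (p % 65521)) = acc ||| 2 ^ (p % 65521) from rfl, Nat.testBit_or,
        Nat.testBit_two_pow] at this
      simpa using this
    refine ⟨List.nodup_cons.2 ⟨fun hm => (hor p hm).2 rfl, hnd⟩, fun q hq => ?_⟩
    rcases List.mem_cons.1 hq with rfl | hq
    · exact hp
    · exact (hor q hq).1

theorem levOK_of_checks {L : Lev} (hs : shapeC L = true) (hp : rowC L.top = true)
    (he : ∀ k < L.tgt.length, edgeP L k) : LevOK L := by
  simp only [shapeC, Bool.and_eq_true, Nat.blt_eq, List.all_eq_true] at hs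
  obtain ⟨⟨⟨⟨⟨⟨⟨h1, h2⟩, h3⟩, h4⟩, h5⟩, h6⟩, h7⟩, h8⟩ := hs
  have h3' := Nat.eq_of_beq_eq_true h3
  have h5' := Nat.eq_of_beq_eq_true h5
  have hpar : ∀ i, i + 1 < L.pts.length →
      ∃ k < L.pts.length * L.ng, L.tgt.getD k 0 = i + 1 ∧ k / L.ng < i + 1 := fun i hi => by
    obtain ⟨⟨ha, hb⟩, hc⟩ := h6 i (List.mem_range.2 (by omega))
    exact ⟨L.par.getD i 0, h3' ▸ ha, Nat.eq_of_beq_eq_true hb, hc⟩
  have hrow : ∀ i < L.pts.length, RowOK (L.pts.getD i 0) := by
    intro i
    induction i using Nat.strong_induction_on with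
    | _ i ih =>
      intro hi
      rcases i with _ | i
      · exact rowOK_of_check hp
      · obtain ⟨k, hk, ht, hlt⟩ := hpar i hi
        have e : rowW mask248 mth (L.gens.getD (k % L.ng) []) (L.pts.getD (k / L.ng) 0) = _ :=
          he k (h3' ▸ hk)
        rw [← ht, ← e]
        exact (row_spec' (ih _ hlt (by omega)) _).1
  refine ⟨h1, h2, fun k hk => ?_, (freshC_sound _ _ h7).1, fun r hr => ?_, h8,
    hpar, fun k hk => he k (h3' ▸ hk)⟩
  · have hk' : k < L.tgt.length := h3' ▸ hk
    rw [List.getD_eq_getElem _ _ hk']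
    exact h4 _ (List.getElem_mem hk')
  · obtain ⟨i, hi, rfl⟩ := List.mem_iff_getElem.1 hr
    rw [← List.getD_eq_getElem _ 0 hi]
    exact hrow i hi

namespace LevOK

variable {L : Lev} (h : LevOK L)
include h

theorem top_mem : L.top ∈ L.pts := by
  rw [Lev.top, List.getD_eq_getElem _ _ h.pts_pos]; exact List.getElem_mem _

theorem edge_vec {k : Nat} (hk : k < L.pts.length * L.ng) :
    Matrix.vecMul (vec (L.pts.getD (k / L.ng) 0))
        (wU (L.gens.getD (k % L.ng) []) : Matrix (Fin 248) (Fin 248) (ZMod 3)) =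
      vec (L.pts.getD (L.tgt.getD k 0) 0) := by
  have hj : k % L.ng < L.gens.length := Nat.mod_lt _ h.ng_pos
  have hi : k / L.ng < L.pts.length := Nat.div_lt_of_lt_mul (by rwa [Nat.mul_comm])
  have hmem : L.gens.getD (k % L.ng) [] ∈ L.gens := by
    rw [List.getD_eq_getElem _ _ hj]; exact List.getElem_mem hj
  have hrow : RowOK (L.pts.getD (k / L.ng) 0) :=
    h.row _ (by rw [List.getD_eq_getElem _ _ hi]; exact List.getElem_mem hi)
  rw [coe_wU (h.letters _ hmem), ← (row_spec' hrow _).2, h.edge k hk]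

theorem gen_image {j i : Nat} (hj : j < L.ng) (hi : i < L.pts.length) :
    ∃ r ∈ L.pts, vec r = Matrix.vecMul (vec (L.pts.getD i 0))
      (wU (L.gens.getD j []) : Matrix (Fin 248) (Fin 248) (ZMod 3)) := by
  have hk : i * L.ng + j < L.pts.length * L.ng := by
    calc i * L.ng + j < (i + 1) * L.ng := by rw [Nat.succ_mul]; exact Nat.add_lt_add_left hj _
      _ ≤ L.pts.length * L.ng := Nat.mul_le_mul_right _ hi
  have e1 : (i * L.ng + j) % L.ng = j := by
    rw [Nat.mul_comm, Nat.mul_add_mod]; exact Nat.mod_eq_of_lt hj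
  have e2 : (i * L.ng + j) / L.ng = i := by
    rw [Nat.mul_comm, Nat.mul_add_div h.ng_pos, Nat.div_eq_of_lt hj, Nat.add_zero]
  have he := h.edge_vec hk
  rw [e1, e2] at he
  have ht := h.tgt_lt _ hk
  exact ⟨_, by rw [List.getD_eq_getElem _ _ ht]; exact List.getElem_mem ht, he.symm⟩

theorem pts_reach : ∀ i < L.pts.length, ∃ g ∈ L.grp,
    Matrix.vecMul (vec L.top) (g : Matrix (Fin 248) (Fin 248) (ZMod 3)) = vec (L.pts.getD i 0) := by
  intro i
  induction i using Nat.strong_induction_on with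
  | _ i ih =>
    intro hi
    rcases i with _ | i
    · exact ⟨1, one_mem _, by rw [Units.val_one, Matrix.vecMul_one]; rfl⟩
    · obtain ⟨k, hk, ht, hp⟩ := h.par i hi
      obtain ⟨g, hg, e⟩ := ih _ hp (by omega)
      have hj : k % L.ng < L.gens.length := Nat.mod_lt _ h.ng_pos
      refine ⟨g * wU (L.gens.getD (k % L.ng) []), mul_mem hg (Subgroup.subset_closure
        ⟨_, by rw [List.getD_eq_getElem _ _ hj]; exact List.getElem_mem hj, rfl⟩), ?_⟩
      rw [Units.val_mul, ← Matrix.vecMul_vecMul, e, h.edge_vec hk, ht]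

theorem length_mul_dvd {K : Subgroup (GL (Fin 248) (ZMod 3))} (hK : K ≤ L.grp)
    (hfix : ∀ g ∈ K, Matrix.vecMul (vec L.top) (g : Matrix (Fin 248) (Fin 248) (ZMod 3)) = vec L.top) :
    L.pts.length * Nat.card K ∣ Nat.card L.grp := by
  classical
  have hc : (L.pts.map vec).toFinset.card = L.pts.length := by
    rw [List.toFinset_card_of_nodup, List.length_map]
    exact List.Nodup.map_on (fun r hr s hs he => vec_inj (h.row r hr) (h.row s hs) he) h.nodup
  have hd := orbit_mul_dvd {g | ∃ w ∈ L.gens, wU w = g} hK (vec L.top) hfix (L.pts.map vec).toFinset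
    (List.mem_toFinset.2 (List.mem_map_of_mem h.top_mem)) ?_ ?_
  · rw [hc] at hd
    exact hd
  · rintro g ⟨w, hw, rfl⟩ x hx
    obtain ⟨r, hr, rfl⟩ := List.mem_map.1 (List.mem_toFinset.1 hx)
    obtain ⟨j, hj, rfl⟩ := List.mem_iff_getElem.1 hw
    obtain ⟨i, hi, rfl⟩ := List.mem_iff_getElem.1 hr
    obtain ⟨r, hr', e⟩ := h.gen_image (j := j) hj hi
    rw [List.getD_eq_getElem _ _ hj, List.getD_eq_getElem _ _ hi] at e
    exact List.mem_toFinset.2 (List.mem_map.2 ⟨r, hr', e⟩)
  · intro x hx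
    obtain ⟨r, hr, rfl⟩ := List.mem_map.1 (List.mem_toFinset.1 hx)
    obtain ⟨i, hi, rfl⟩ := List.mem_iff_getElem.1 hr
    obtain ⟨g, hg, e⟩ := h.pts_reach i hi
    rw [List.getD_eq_getElem _ _ hi] at e
    exact ⟨g, hg, e⟩

theorem length_dvd : L.pts.length ∣ Nat.card L.grp := by
  have := h.length_mul_dvd (K := ⊥) bot_le fun g hg => by
    rw [Subgroup.mem_bot.1 hg, Units.val_one, Matrix.vecMul_one]
  rwa [Subgroup.card_bot, mul_one] at this

theorem link_dvd {L' : Lev} (hl : linkC L L' = true) {n : Nat} (hn : n ∣ Nat.card L'.grp) :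
    L.pts.length * n ∣ Nat.card L.grp := by
  simp only [linkC, Bool.and_eq_true, decide_eq_true_eq, List.all_eq_true, Nat.blt_eq] at hl
  obtain ⟨⟨hmap, hidx⟩, hfixg⟩ := hl
  refine (Nat.mul_dvd_mul_left _ hn).trans (h.length_mul_dvd ?_ ?_)
  · rw [Lev.grp, Subgroup.closure_le]
    rintro g ⟨w, hw, rfl⟩
    rw [← hmap] at hw
    obtain ⟨e, he, rfl⟩ := List.mem_map.1 hw
    have hc := hidx e he
    clear he hw
    induction e with
    | nil => simpa [wU] using one_mem L.grp
    | cons c e ih =>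
      rw [List.flatMap_cons, wU_append]
      refine mul_mem ?_ (ih fun x hx => hc x (List.mem_cons_of_mem _ hx))
      have hi : c / 2 < L.gens.length := hc c List.mem_cons_self
      have hm : L.gens.getD (c / 2) [] ∈ L.gens := by
        rw [List.getD_eq_getElem _ _ hi]; exact List.getElem_mem hi
      unfold factor
      split
      · exact Subgroup.subset_closure ⟨_, hm, rfl⟩
      · rw [wU_inv (h.letters _ hm)]
        exact inv_mem (Subgroup.subset_closure ⟨_, hm, rfl⟩)
  · intro g hg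
    induction hg using Subgroup.closure_induction with
    | one => rw [Units.val_one, Matrix.vecMul_one]
    | mul g k _ _ e1 e2 => rw [Units.val_mul, ← Matrix.vecMul_vecMul, e1, e2]
    | inv g _ e =>
      conv_lhs => rw [← e]
      rw [Matrix.vecMul_vecMul, ← Units.val_mul, mul_inv_cancel, Units.val_one, Matrix.vecMul_one]
    | mem g hg =>
    obtain ⟨w, hw, rfl⟩ := hg
    have hwl : ∀ x ∈ w, x < 11 := by
      rw [← hmap] at hw
      obtain ⟨e, he, rfl⟩ := List.mem_map.1 hw
      intro x hx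
      obtain ⟨c, hc, hx⟩ := List.mem_flatMap.1 hx
      have hi : c / 2 < L.gens.length := hidx e he c hc
      have hm : L.gens.getD (c / 2) [] ∈ L.gens := by
        rw [List.getD_eq_getElem _ _ hi]; exact List.getElem_mem hi
      unfold factor at hx
      split at hx
      · exact h.letters _ hm x hx
      · obtain ⟨y, hy, rfl⟩ := List.mem_map.1 hx
        exact invL_lt (h.letters _ hm y (List.mem_reverse.1 hy))
    rw [coe_wU hwl, ← (row_spec' (h.row _ h.top_mem) w).2, Nat.eq_of_beq_eq_true (hfixg w hw)]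

theorem grp_le : L.grp ≤ thRep.range := by
  rw [Lev.grp, Subgroup.closure_le]
  rintro g ⟨w, hw, rfl⟩
  rw [SetLike.mem_coe, wU]
  refine Subgroup.list_prod_mem _ fun x hx => ?_
  obtain ⟨y, hy, rfl⟩ := List.mem_map.1 hx
  exact uV_mem_range (h.letters _ hw y hy)

theorem dvd_range {n : Nat} (hn : n ∣ Nat.card L.grp) : n ∣ Nat.card thRep.range :=
  Nat.dvd_trans hn (Subgroup.card_dvd_of_le h.grp_le)

end LevOK

end Cfsg.Agent.ThMat
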