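import Cfsg.Agent.ThMat.Big

/-!
# Blocks of rows times matrices of degree 248

A block of rows is one number; multiplying it by a matrix is a sum of outer products of a masked
column of the block and a row of the matrix.
-/

set_option autoImplicit false
set_option maxRecDepth 100000

namespace Cfsg.Agent.ThMat

open Cfsg.Agent.CosetCert

/-- The sum of the outer products of the columns of `z` and the rows of `L`. -/
noncomputable def accL (cm : Nat) (L : List Nat) : Nat → Nat → Nat :=
  List.rec (motive := fun _ => Nat → Nat → Nat) (fun _ a => a)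
    (fun r _ ih z a => force (Nat.add a (Nat.mul (Nat.land z cm) r)) fun a' =>
      force (Nat.shiftRight z 24) fun z' => ih z' a') L

/-- A block times the matrices of a word. -/
noncomputable def runW (G : Nat → List Blk) (cm rd : Nat) (w : List Nat) (z : Nat) : Nat :=
  List.rec (motive := fun _ => Nat → Nat) (fun z => z)
    (fun x _ ih z => force (accL cm (rowsOf 248 (G x)) z 0) fun a => force (red rd a) ih) w z

/-- A number repeated in `m` blocks of 248 fields. -/
noncomputable def repM (m c : Nat) : Nat :=
  Nat.rec (motive := fun _ => Nat) 0 (fun _ a => Nat.add c (Nat.shiftLeft a 5952)) m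

/-- The diagonal of the first `m` rows. -/
noncomputable def diagM (m : Nat) : Nat :=
  Nat.rec (motive := fun _ => Nat) 0 (fun _ a => Nat.add 1 (Nat.shiftLeft a 5976)) m

/-- The product over a word fixes the rows `lo, …, lo + 61` of the identity. -/
noncomputable def fixW (G : Nat → List Blk) (msk : Nat) (w : List Nat) (lo : Nat) : Bool :=
  force (repM 62 3) fun cm => force (repM 62 msk) fun rd =>
    force (Nat.shiftLeft (diagM 62) (Nat.mul 24 lo)) fun J => Nat.beq (runW G cm rd w J) J

theorem shl_row (a : Nat) : Nat.shiftLeft a 5952 = 16777216 ^ 248 * a := by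
  show a <<< 5952 = _
  rw [Nat.shiftLeft_eq, Nat.mul_comm, show (5952 : Nat) = 24 * 248 by norm_num, pow_mul,
    show (2 : Nat) ^ 24 = 16777216 by norm_num]

attribute [local irreducible] pk maskF

theorem pk_delta : ∀ (n k : Nat), k < n → pk n (fun j => if j = k then 1 else 0) = 16777216 ^ k
  | 0, k, h => absurd h (Nat.not_lt_zero k)
  | n + 1, 0, _ => by simp [pk, pk_zero]
  | n + 1, k + 1, h => by
    have ih := pk_delta n k (by omega)
    simp only [pk, Nat.add_right_cancel_iff, ih, pow_succ']
    simp

theorem rep_col (m : Nat) : repM m 3 = colMask 248 m := by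
  induction m with
  | zero => rfl
  | succ m ih =>
    show 3 + Nat.shiftLeft (repM m 3) 5952 = _
    rw [ih, shl_row]; simp only [colMask]

theorem rep_mask (m : Nat) {msk : Nat} (hm : msk = maskF 248) : repM m msk = maskF (248 * m) := by
  induction m with
  | zero => simp [maskF, repM]
  | succ m ih =>
    show msk + Nat.shiftLeft (repM m msk) 5952 = _
    rw [ih, shl_row, show 248 * (m + 1) = 248 + 248 * m by ring, maskF_append, hm]

theorem diag_eq : ∀ (m lo : Nat), lo + m ≤ 248 →
    Nat.shiftLeft (diagM m) (Nat.mul 24 lo) = pkR 248 m fun i j => if j = i + lo then 1 else 0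
  | 0, lo, _ => by
    show (0 : Nat) <<< (24 * lo) = _
    simp [pkR]
  | m + 1, lo, h => by
    have ih := diag_eq m (lo + 1) (by omega)
    change diagM m <<< (24 * (lo + 1)) = _ at ih
    show (1 + diagM m <<< 5976) <<< (24 * lo) = _
    simp only [pkR, show ∀ i, i + 1 + lo = i + (lo + 1) from fun i => by omega, Nat.zero_add]
    rw [pk_delta 248 lo (by omega), ← ih]
    have hp : ∀ k, (2 : Nat) ^ (24 * k) = 16777216 ^ k := fun k => by rw [pow_mul]; norm_num
    rw [Nat.shiftLeft_eq, Nat.shiftLeft_eq, Nat.shiftLeft_eq, show (5976 : Nat) = 24 * 249 by norm_num,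
      hp, hp, hp]
    ring

attribute [local irreducible] pkR colMask colR

theorem accL_cons (cm r : Nat) (L : List Nat) (z a : Nat) :
    accL cm (r :: L) z a = accL cm L (z >>> 24) (a + Nat.land z cm * r) := by
  show force (Nat.add a (Nat.mul (Nat.land z cm) r)) (fun a' =>
      force (Nat.shiftRight z 24) fun z' => accL cm L z' a') = _
  rw [force_eq, force_eq]
  rfl

theorem runW_cons (G : Nat → List Blk) (cm rd x : Nat) (w : List Nat) (z : Nat) :
    runW G cm rd (x :: w) z = runW G cm rd w (red rd (accL cm (rowsOf 248 (G x)) z 0)) := by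
  show force (accL cm (rowsOf 248 (G x)) z 0) (fun a => force (red rd a) (runW G cm rd w)) = _
  rw [force_eq, force_eq]

theorem accL_spec (m : Nat) {M A : Nat → Nat → Nat} (hA : ∀ i j, A i j < 4) {R : List Nat}
    (hl : R.length = 248) (hR : ∀ l (h : l < R.length), R[l] = pk 248 (M l)) :
    ∀ (k s a : Nat), s + k = 248 →
      accL (colMask 248 m) (R.drop s) (pkR 248 m A >>> (24 * s)) a =
      a + pkR 248 m (fun i j => ∑ l ∈ Finset.Ico s 248, A i l * M l j)
  | 0, s, a, h => by
    obtain rfl : s = 248 := by omega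
    rw [List.drop_eq_nil_of_le (by omega)]
    simp only [Finset.Ico_self, Finset.sum_empty, pkR_zero, Nat.add_zero]
    rfl
  | k + 1, s, a, h => by
    have hs : s < R.length := by omega
    rw [List.drop_eq_getElem_cons hs, accL_cons, ← Nat.shiftRight_add, ← Nat.mul_succ,
      accL_spec m hA hl hR k (s + 1) _ (by omega)]
    have c1 : Nat.land (pkR 248 m A >>> (24 * s)) (colMask 248 m) = colR 248 m fun i => A i s :=
      col_cut 248 s (by omega) m A hA
    rw [c1, hR s hs, colR_mul, Nat.add_assoc, pkR_add]
    congr 1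
    refine pkR_congr _ _ fun i _ j _ => ?_
    rw [Finset.sum_eq_sum_Ico_succ_bot (by omega : s < 248)]

/-- The matrix of a letter. -/
noncomputable def matG (G : Nat → List Blk) (x : Nat) : Matrix (Fin 248) (Fin 248) (ZMod 3) :=
  toMat 248 (rowsOf 248 (G x))

theorem runW_spec {G : Nat → List Blk} (hG : ∀ x, Good 248 (rowsOf 248 (G x))) (m : Nat) :
    ∀ (w : List Nat) (A : Nat → Nat → Nat), (∀ i j, A i j < 3) →
    ∃ B : Nat → Nat → Nat, (∀ i j, B i j < 3) ∧
      runW G (colMask 248 m) (maskF (248 * m)) w (pkR 248 m A) = pkR 248 m B ∧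
      ∀ (i : Nat) (j : Fin 248), (B i j : ZMod 3) =
        ∑ l : Fin 248, (A i l : ZMod 3) * (w.map (matG G)).prod l j
  | [], A, hA => ⟨A, hA, rfl, fun i j => by simp [Matrix.one_apply]⟩
  | x :: w, A, hA => by
    obtain ⟨hl, hr⟩ := hG x
    set R := rowsOf 248 (G x) with hRdef
    let M : Nat → Nat → Nat := fun l j => fieldN (R.getD l 0) j
    have hR : ∀ l (h : l < R.length), R[l] = pk 248 (M l) := fun l h => by
      obtain ⟨f, hf, e⟩ := hr _ (List.getElem_mem h)
      refine (pk_field 248 R[l] ?_).symm.trans (pk_congr 248 fun j _ => ?_)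
      · rw [e]; exact pk_lt _ _ fun j _ => (hf j).trans (by norm_num)
      · simp only [M, List.getD_eq_getElem _ _ h]
    have hM : ∀ l j, l < 248 → j < 248 → M l j ≤ 2 := fun l j hl' hj => by
      obtain ⟨f, hf, e⟩ := hr _ (List.getElem_mem (show l < R.length by omega))
      simp only [M, List.getD_eq_getElem _ _ (show l < R.length by omega)]
      rw [e, field_pk _ _ (fun j _ => (hf j).trans (by norm_num)) j hj]
      have := hf j
      omega
    let S : Nat → Nat → Nat := fun i j => if j < 248 then ∑ l ∈ Finset.Ico 0 248, A i l * M l j else 0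
    have h := accL_spec m (fun i j => (hA i j).trans (by norm_num)) hl hR 248 0 0 rfl
    simp only [Nat.mul_zero, Nat.zero_add, Nat.shiftRight_zero, List.drop_zero] at h
    have hS : accL (colMask 248 m) R (pkR 248 m A) 0 = pkR 248 m S :=
      h.trans (pkR_congr _ _ fun i _ j hj => by simp [S, hj])
    have hb : ∀ i j, S i j < 2048 := fun i j => by
      simp only [S]
      split
      · rename_i hj
        calc (∑ l ∈ Finset.Ico 0 248, A i l * M l j) ≤ ∑ l ∈ Finset.Ico 0 248, 2 * 2 :=
              Finset.sum_le_sum fun l hl' => Nat.mul_le_mul (by have := hA i l; omega)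
                (hM l j (Finset.mem_Ico.1 hl').2 hj)
          _ < 2048 := by simp
      · norm_num
    obtain ⟨B, hB, e, eB⟩ := runW_spec hG m w (fun i j => S i j % 3) (fun i j => Nat.mod_lt _ (by norm_num))
    refine ⟨B, hB, ?_, fun i j => ?_⟩
    · rw [runW_cons, ← hRdef, hS, red_pkR _ _ _ hb, e]
    rw [eB i j, List.map_cons, List.prod_cons]
    simp only [Matrix.mul_apply, Finset.mul_sum]
    rw [Finset.sum_comm]
    refine Finset.sum_congr rfl fun l _ => ?_
    simp only [S, if_pos l.2, ZMod.natCast_mod, Nat.cast_sum, Nat.cast_mul, Nat.Ico_zero_eq_range,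
      Finset.sum_range, Finset.sum_mul, mul_assoc]
    rfl

theorem fixW_spec {G : Nat → List Blk} (hG : ∀ x, Good 248 (rowsOf 248 (G x))) {msk : Nat}
    (hm : msk = maskF 248) {w : List Nat} (h : ∀ c < 4, fixW G msk w (62 * c) = true) :
    (w.map (matG G)).prod = 1 := by
  ext a b
  have hc : (a : Nat) / 62 < 4 := by have := a.2; omega
  have h1 := h _ hc
  obtain ⟨B, hB, e, eB⟩ := runW_spec hG 62 w (fun i j => if j = i + 62 * ((a : Nat) / 62) then 1 else 0)
    (fun i j => by split <;> norm_num)
  rw [fixW, force_eq, force_eq, force_eq, rep_col, rep_mask 62 hm, diag_eq 62 _ (by omega), e] at h1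
  have he := pkR_inj 248 62 B _ (fun i j => (hB i j).trans (by norm_num))
    (fun i j => by split <;> norm_num) (Nat.eq_of_beq_eq_true h1)
  have ha : (a : Nat) % 62 + 62 * ((a : Nat) / 62) = a := Nat.mod_add_div _ _
  have h2 := eB ((a : Nat) % 62) b
  rw [he _ (Nat.mod_lt _ (by norm_num)) b b.2, ha, Finset.sum_eq_single a] at h2
  · rw [if_pos rfl, Nat.cast_one, one_mul] at h2
    rw [← h2, Matrix.one_apply]
    by_cases hab : a = b
    · simp [hab]
    · rw [if_neg hab, if_neg fun e' => hab (Fin.ext e'.symm), Nat.cast_zero]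
  · intro l _ hl
    rw [if_neg fun e' => hl (Fin.ext e'), Nat.cast_zero, zero_mul]
  · intro hx; exact absurd (Finset.mem_univ a) hx

end Cfsg.Agent.ThMat
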