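import Cfsg.Agent.ThMat.Code

/-! Generated: the relators of the presented Thompson group as lists of letters. -/

set_option maxRecDepth 100000

namespace Cfsg.Agent.ThMat

open Cfsg.Spor

/-- The relators. -/
def lits : List (List Nat) := [
  [0, 0],
  [1, 1],
  [2, 2],
  [3, 3],
  [4, 4],
  [0, 1, 0, 1, 0, 1],
  [0, 4, 0, 4],
  [1, 2, 1, 2, 1, 2],
  [1, 3, 1, 3],
  [1, 4, 1, 4],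
  [0, 3, 2, 3, 2, 3, 2, 3, 2],
  [2, 4, 2, 4],
  [3, 4, 3, 4, 3, 4],
  [1, 2, 3, 4, 1, 2, 3, 4, 1, 2, 3, 4, 1, 2, 3, 4, 1, 2, 3, 4, 1, 2, 3, 4, 1, 2, 3, 4, 1, 2, 3, 4],
  [5, 5, 5, 5, 5, 5, 5],
  [8, 0, 5, 0],
  [8, 1, 5, 1],
  [8, 2, 5, 2],
  [5, 3, 5, 3],
  [4, 8, 4, 8, 8, 4, 5, 5, 5],
  [6, 6, 6],
  [9, 0, 6, 0],
  [9, 1, 6, 1],
  [9, 2, 6, 2],
  [9, 3, 6, 3],
  [9, 4, 6, 4],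
  [9, 5, 6, 8, 8],
  [7, 7, 2, 0],
  [10, 0, 7, 0],
  [10, 2, 7, 2],
  [10, 4, 7, 4],
  [3, 4, 10, 3, 7, 3, 4, 10, 3, 7],
  [10, 1, 2, 0, 1, 7, 1, 0, 2, 1, 4],
  [3, 10, 3, 1, 2, 0, 1, 3, 7, 3, 1, 0, 2, 1, 2, 4, 3, 10, 3, 1, 2, 0, 1, 4, 10],
  [10, 6, 7, 6],
  [4, 8, 8, 10, 5, 5, 4, 8, 8, 7, 5, 5],
  [0, 2, 8, 10, 8, 10, 8, 10],
  [0, 2, 8, 10, 5, 7, 8, 10, 5, 7, 8, 10, 5, 7, 8, 10, 5, 7],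
  [3, 8, 8, 7, 5, 5, 3, 8, 8, 7, 5, 5, 3, 8, 8, 7, 5, 5, 3, 8, 8, 7, 4, 3, 2, 3, 4, 5, 5, 5, 4, 3, 2, 3, 4, 8, 3, 2, 3, 2, 0]]

theorem lits_eq : Th.extra.map (fun r => r.toWord.map code) = lits := by decide +kernel

end Cfsg.Agent.ThMat
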