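import Cfsg.Agent.ThMat.Data
import Cfsg.Agent.ThMat.Words
import Cfsg.Agent.ThMat.Run

/-! The check of a relator. -/

set_option autoImplicit false

namespace Cfsg.Agent.ThMat

/-- The check of a word. -/
noncomputable def relC (w : List Nat) (lo : Nat) : Bool := fixW mth mask248 w lo

theorem rel_all {w : List Nat} (h0 : relC w 0 = true) (h1 : relC w 62 = true) (h2 : relC w 124 = true)
    (h3 : relC w 186 = true) : ∀ c < 4, relC w (62 * c) = true
  | 0, _ => h0
  | 1, _ => h1
  | 2, _ => h2
  | 3, _ => h3
  | n + 4, h => absurd h (by omega)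

end Cfsg.Agent.ThMat
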