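import Cfsg.Agent.ThMat.Maps

/-!
# Orbit certificates
-/

set_option autoImplicit false

namespace Cfsg.Agent.ThMat

open Cfsg.Agent.CosetCert

/-- An orbit: generators as words, points, images (point `i`, generator `j` at `i * ng + j`), an
edge into every point after the first, and the generators as products of those of the level
above (`2 * i` for the `i`-th, `2 * i + 1` for its inverse). -/
structure Lev where
  gens : List (List Nat)
  pts : List Nat
  tgt : List Nat
  par : List Nat
  expr : List (List Nat)

/-- The letter inverse to a letter. -/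
def invL : Nat → Nat
  | 5 => 8
  | 6 => 9
  | 7 => 10
  | 8 => 5
  | 9 => 6
  | 10 => 7
  | x => x

/-- The number of generators. -/
def Lev.ng (L : Lev) : Nat := L.gens.length

/-- The first point. -/
def Lev.top (L : Lev) : Nat := L.pts.getD 0 0

/-- The images numbered `k, …, k + n - 1`. -/
noncomputable def edgeC (L : Lev) (k n : Nat) : Bool :=
  allFrom (fun k => Nat.beq (rowW mask248 mth (L.gens.getD (k % L.ng) []) (L.pts.getD (k / L.ng) 0))
    (L.pts.getD (L.tgt.getD k 0) 0)) k n

/-- The numbers are distinct modulo 65521 from each other and from the marked residues. -/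
noncomputable def freshC (l : List Nat) : Nat → Bool :=
  List.rec (fun _ => true) (fun p _ ih acc => force (p % 65521) fun k =>
    gate (Nat.beq (Nat.land 1 (Nat.shiftRight acc k)) 0) (force (Nat.lor acc (2 ^ k)) fun a => ih a)) l

/-- The shape of the data. -/
noncomputable def shapeC (L : Lev) : Bool :=
  Nat.blt 0 L.ng && Nat.blt 0 L.pts.length && Nat.beq L.tgt.length (L.pts.length * L.ng) &&
  L.tgt.all (fun t => Nat.blt t L.pts.length) && Nat.beq (L.par.length + 1) L.pts.length &&
  (List.range L.par.length).all (fun i => Nat.blt (L.par.getD i 0) L.tgt.length &&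
    Nat.beq (L.tgt.getD (L.par.getD i 0) 0) (i + 1) && Nat.blt (L.par.getD i 0 / L.ng) (i + 1)) &&
  freshC L.pts 0 && L.gens.all (fun g => g.all fun x => Nat.blt x 11)

/-- The value of a factor. -/
def factor (gs : List (List Nat)) (c : Nat) : List Nat :=
  if c % 2 = 0 then gs.getD (c / 2) [] else (gs.getD (c / 2) []).reverse.map invL

/-- The generators of `L'` lie in the group of `L` and fix its first point. -/
noncomputable def linkC (L L' : Lev) : Bool :=
  decide (L'.expr.map (fun e => e.flatMap (factor L.gens)) = L'.gens) &&
  L'.expr.all (fun e => e.all fun c => Nat.blt (c / 2) L.ng) &&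
  L'.gens.all (fun g => Nat.beq (rowW mask248 mth g L.top) L.top)

end Cfsg.Agent.ThMat
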