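import Cfsg.Agent.ThMat.OrbitData
import Cfsg.Agent.ThMat.Edge

/-! Generated: images of orbit points. -/

set_option Elab.async false
set_option maxRecDepth 100000

namespace Cfsg.Agent.ThMat

theorem three0_e0 : edgeC three0 0 8 = true := by decide +kernel

theorem three0_e8 : edgeC three0 8 1 = true := by decide +kernel

theorem three0_e9 : edgeC three0 9 1 = true := by decide +kernel

theorem three0_e10 : edgeC three0 10 8 = true := by decide +kernel

theorem three0_e18 : edgeC three0 18 2 = true := by decide +kernel

theorem three0_e20 : edgeC three0 20 1 = true := by decide +kernel

theorem three0_e21 : edgeC three0 21 8 = true := by decide +kernel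

theorem three0_e29 : edgeC three0 29 2 = true := by decide +kernel

theorem three0_e31 : edgeC three0 31 1 = true := by decide +kernel

theorem three0_e32 : edgeC three0 32 8 = true := by decide +kernel

theorem three0_e40 : edgeC three0 40 2 = true := by decide +kernel

theorem three0_e42 : edgeC three0 42 1 = true := by decide +kernel

theorem three0_e43 : edgeC three0 43 8 = true := by decide +kernel

theorem three0_e51 : edgeC three0 51 2 = true := by decide +kernel

theorem three0_e53 : edgeC three0 53 1 = true := by decide +kernel

theorem three0_e54 : edgeC three0 54 8 = true := by decide +kernel

theorem three0_e62 : edgeC three0 62 2 = true := by decide +kernel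

theorem three0_e64 : edgeC three0 64 1 = true := by decide +kernel

theorem three0_e65 : edgeC three0 65 8 = true := by decide +kernel

theorem three0_e73 : edgeC three0 73 2 = true := by decide +kernel

theorem three0_e75 : edgeC three0 75 1 = true := by decide +kernel

theorem three0_e76 : edgeC three0 76 8 = true := by decide +kernel

theorem three0_e84 : edgeC three0 84 2 = true := by decide +kernel

theorem three0_e86 : edgeC three0 86 1 = true := by decide +kernel

theorem three0_e87 : edgeC three0 87 8 = true := by decide +kernel

theorem three0_e95 : edgeC three0 95 2 = true := by decide +kernel

theorem three0_e97 : edgeC three0 97 1 = true := by decide +kernel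

theorem three0_e98 : edgeC three0 98 8 = true := by decide +kernel

theorem three0_e106 : edgeC three0 106 2 = true := by decide +kernel

theorem three0_e108 : edgeC three0 108 1 = true := by decide +kernel

theorem three0_e109 : edgeC three0 109 8 = true := by decide +kernel

theorem three0_e117 : edgeC three0 117 2 = true := by decide +kernel

theorem three0_e119 : edgeC three0 119 1 = true := by decide +kernel

theorem three0_e120 : edgeC three0 120 8 = true := by decide +kernel

theorem three0_e128 : edgeC three0 128 2 = true := by decide +kernel

theorem three0_e130 : edgeC three0 130 1 = true := by decide +kernel

theorem three0_e131 : edgeC three0 131 8 = true := by decide +kernel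

theorem three0_e139 : edgeC three0 139 2 = true := by decide +kernel

theorem three0_e141 : edgeC three0 141 1 = true := by decide +kernel

theorem three0_e142 : edgeC three0 142 8 = true := by decide +kernel

theorem three0_e150 : edgeC three0 150 2 = true := by decide +kernel

theorem three0_e152 : edgeC three0 152 1 = true := by decide +kernel

theorem three0_e153 : edgeC three0 153 8 = true := by decide +kernel

theorem three0_e161 : edgeC three0 161 2 = true := by decide +kernel

theorem three0_e163 : edgeC three0 163 1 = true := by decide +kernel

theorem three0_e164 : edgeC three0 164 8 = true := by decide +kernel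

theorem three0_e172 : edgeC three0 172 2 = true := by decide +kernel

theorem three0_e174 : edgeC three0 174 1 = true := by decide +kernel

theorem three0_e175 : edgeC three0 175 8 = true := by decide +kernel

theorem three0_e183 : edgeC three0 183 2 = true := by decide +kernel

theorem three0_e185 : edgeC three0 185 1 = true := by decide +kernel

theorem three0_e186 : edgeC three0 186 8 = true := by decide +kernel

theorem three0_e194 : edgeC three0 194 2 = true := by decide +kernel

theorem three0_e196 : edgeC three0 196 1 = true := by decide +kernel

theorem three0_e197 : edgeC three0 197 8 = true := by decide +kernel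

theorem three0_e205 : edgeC three0 205 2 = true := by decide +kernel

theorem three0_e207 : edgeC three0 207 1 = true := by decide +kernel

theorem three0_e208 : edgeC three0 208 8 = true := by decide +kernel

theorem three0_e216 : edgeC three0 216 2 = true := by decide +kernel

theorem three0_e218 : edgeC three0 218 1 = true := by decide +kernel

theorem three0_e219 : edgeC three0 219 8 = true := by decide +kernel

theorem three0_e227 : edgeC three0 227 2 = true := by decide +kernel

theorem three0_e229 : edgeC three0 229 1 = true := by decide +kernel

theorem three0_e230 : edgeC three0 230 8 = true := by decide +kernel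

theorem three0_e238 : edgeC three0 238 2 = true := by decide +kernel

theorem three0_e240 : edgeC three0 240 1 = true := by decide +kernel

theorem three0_e241 : edgeC three0 241 8 = true := by decide +kernel

theorem three0_e249 : edgeC three0 249 2 = true := by decide +kernel

theorem three0_e251 : edgeC three0 251 1 = true := by decide +kernel

theorem three0_e252 : edgeC three0 252 8 = true := by decide +kernel

theorem three0_e260 : edgeC three0 260 2 = true := by decide +kernel

theorem three0_e262 : edgeC three0 262 1 = true := by decide +kernel

theorem three0_e263 : edgeC three0 263 8 = true := by decide +kernel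

theorem three0_e271 : edgeC three0 271 2 = true := by decide +kernel

theorem three0_e273 : edgeC three0 273 1 = true := by decide +kernel

theorem three0_e274 : edgeC three0 274 8 = true := by decide +kernel

theorem three0_e282 : edgeC three0 282 2 = true := by decide +kernel

theorem three0_e284 : edgeC three0 284 1 = true := by decide +kernel

theorem three0_e285 : edgeC three0 285 8 = true := by decide +kernel

theorem three0_e293 : edgeC three0 293 2 = true := by decide +kernel

theorem three0_e295 : edgeC three0 295 1 = true := by decide +kernel

theorem three0_e296 : edgeC three0 296 1 = true := by decide +kernel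

theorem three0_edges : ∀ k < 297, edgeP three0 k :=
  edge_cons (edge_cons (edge_cons (edge_cons (edge_cons (edge_cons (edge_cons (edge_cons (edge_cons (edge_cons (edge_cons (edge_cons (edge_cons (edge_cons (edge_cons (edge_cons (edge_cons (edge_cons (edge_cons (edge_cons (edge_cons (edge_cons (edge_cons (edge_cons (edge_cons (edge_cons (edge_cons (edge_cons (edge_cons (edge_cons (edge_cons (edge_cons (edge_cons (edge_cons (edge_cons (edge_cons (edge_cons (edge_cons (edge_cons (edge_cons (edge_cons (edge_cons (edge_cons (edge_cons (edge_cons (edge_cons (edge_cons (edge_cons (edge_cons (edge_cons (edge_cons (edge_cons (edge_cons (edge_cons (edge_cons (edge_cons (edge_cons (edge_cons (edge_cons (edge_cons (edge_cons (edge_cons (edge_cons (edge_cons (edge_cons (edge_cons (edge_cons (edge_cons (edge_cons (edge_cons (edge_cons (edge_cons (edge_cons (edge_cons (edge_cons (edge_cons (edge_cons (edge_cons (edge_cons (edge_cons (edge_cons (edge_cons (edge_nil three0) three0_e0) three0_e8) three0_e9) three0_e10) three0_e18) three0_e20) three0_e21) three0_e29) three0_e31) three0_e32) three0_e40) three0_e42) three0_e43) three0_e51) three0_e53) three0_e54) three0_e62) three0_e64) three0_e65) three0_e73) three0_e75) three0_e76) three0_e84) three0_e86) three0_e87)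 three0_e95) three0_e97) three0_e98) three0_e106) three0_e108) three0_e109) three0_e117) three0_e119) three0_e120) three0_e128) three0_e130) three0_e131) three0_e139) three0_e141) three0_e142) three0_e150) three0_e152) three0_e153) three0_e161) three0_e163) three0_e164) three0_e172) three0_e174) three0_e175) three0_e183) three0_e185) three0_e186) three0_e194) three0_e196) three0_e197) three0_e205) three0_e207) three0_e208) three0_e216) three0_e218) three0_e219) three0_e227) three0_e229) three0_e230) three0_e238) three0_e240) three0_e241) three0_e249) three0_e251) three0_e252) three0_e260) three0_e262) three0_e263) three0_e271) three0_e273) three0_e274) three0_e282) three0_e284) three0_e285) three0_e293) three0_e295) three0_e296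

end Cfsg.Agent.ThMat
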