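import Cfsg.Agent.ThMat.OrbitData
import Cfsg.Agent.ThMat.Edge

/-! Generated: images of orbit points. -/

set_option Elab.async false
set_option maxRecDepth 100000

namespace Cfsg.Agent.ThMat

theorem five0_e0 : edgeC five0 0 4 = true := by decide +kernel

theorem five0_e4 : edgeC five0 4 3 = true := by decide +kernel

theorem five0_e7 : edgeC five0 7 3 = true := by decide +kernel

theorem five0_e10 : edgeC five0 10 3 = true := by decide +kernel

theorem five0_e13 : edgeC five0 13 3 = true := by decide +kernel

theorem five0_e16 : edgeC five0 16 3 = true := by decide +kernel

theorem five0_e19 : edgeC five0 19 3 = true := by decide +kernel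

theorem five0_e22 : edgeC five0 22 3 = true := by decide +kernel

theorem five0_e25 : edgeC five0 25 3 = true := by decide +kernel

theorem five0_e28 : edgeC five0 28 3 = true := by decide +kernel

theorem five0_e31 : edgeC five0 31 3 = true := by decide +kernel

theorem five0_e34 : edgeC five0 34 3 = true := by decide +kernel

theorem five0_e37 : edgeC five0 37 3 = true := by decide +kernel

theorem five0_e40 : edgeC five0 40 3 = true := by decide +kernel

theorem five0_e43 : edgeC five0 43 3 = true := by decide +kernel

theorem five0_e46 : edgeC five0 46 3 = true := by decide +kernel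

theorem five0_e49 : edgeC five0 49 3 = true := by decide +kernel

theorem five0_e52 : edgeC five0 52 3 = true := by decide +kernel

theorem five0_e55 : edgeC five0 55 3 = true := by decide +kernel

theorem five0_e58 : edgeC five0 58 3 = true := by decide +kernel

theorem five0_e61 : edgeC five0 61 3 = true := by decide +kernel

theorem five0_e64 : edgeC five0 64 3 = true := by decide +kernel

theorem five0_e67 : edgeC five0 67 3 = true := by decide +kernel

theorem five0_e70 : edgeC five0 70 3 = true := by decide +kernel

theorem five0_e73 : edgeC five0 73 2 = true := by decide +kernel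

theorem five0_edges : ∀ k < 75, edgeP five0 k :=
  edge_cons (edge_cons (edge_cons (edge_cons (edge_cons (edge_cons (edge_cons (edge_cons (edge_cons (edge_cons (edge_cons (edge_cons (edge_cons (edge_cons (edge_cons (edge_cons (edge_cons (edge_cons (edge_cons (edge_cons (edge_cons (edge_cons (edge_cons (edge_cons (edge_cons (edge_nil five0) five0_e0) five0_e4) five0_e7) five0_e10) five0_e13) five0_e16) five0_e19) five0_e22) five0_e25) five0_e28) five0_e31) five0_e34) five0_e37) five0_e40) five0_e43) five0_e46) five0_e49) five0_e52) five0_e55) five0_e58) five0_e61) five0_e64) five0_e67) five0_e70) five0_e73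

end Cfsg.Agent.ThMat
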