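import Cfsg.Agent.ThMat.OrbitData
import Cfsg.Agent.ThMat.Edge

/-! Generated: images of orbit points. -/

set_option Elab.async false
set_option maxRecDepth 100000

namespace Cfsg.Agent.ThMat

theorem two0_e0 : edgeC two0 0 70 = true := by decide +kernel

theorem two0_e70 : edgeC two0 70 70 = true := by decide +kernel

theorem two0_e140 : edgeC two0 140 70 = true := by decide +kernel

theorem two0_e210 : edgeC two0 210 70 = true := by decide +kernel

theorem two0_e280 : edgeC two0 280 70 = true := by decide +kernel

theorem two0_e350 : edgeC two0 350 70 = true := by decide +kernel

theorem two0_e420 : edgeC two0 420 70 = true := by decide +kernel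

theorem two0_e490 : edgeC two0 490 70 = true := by decide +kernel

theorem two0_e560 : edgeC two0 560 70 = true := by decide +kernel

theorem two0_e630 : edgeC two0 630 70 = true := by decide +kernel

theorem two0_e700 : edgeC two0 700 70 = true := by decide +kernel

theorem two0_e770 : edgeC two0 770 70 = true := by decide +kernel

theorem two0_e840 : edgeC two0 840 70 = true := by decide +kernel

theorem two0_e910 : edgeC two0 910 70 = true := by decide +kernel

theorem two0_e980 : edgeC two0 980 70 = true := by decide +kernel

theorem two0_e1050 : edgeC two0 1050 70 = true := by decide +kernel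

theorem two0_e1120 : edgeC two0 1120 70 = true := by decide +kernel

theorem two0_e1190 : edgeC two0 1190 70 = true := by decide +kernel

theorem two0_e1260 : edgeC two0 1260 70 = true := by decide +kernel

theorem two0_e1330 : edgeC two0 1330 70 = true := by decide +kernel

theorem two0_e1400 : edgeC two0 1400 70 = true := by decide +kernel

theorem two0_e1470 : edgeC two0 1470 70 = true := by decide +kernel

theorem two0_e1540 : edgeC two0 1540 70 = true := by decide +kernel

theorem two0_e1610 : edgeC two0 1610 70 = true := by decide +kernel

theorem two0_edges : ∀ k < 1680, edgeP two0 k :=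
  edge_cons (edge_cons (edge_cons (edge_cons (edge_cons (edge_cons (edge_cons (edge_cons (edge_cons (edge_cons (edge_cons (edge_cons (edge_cons (edge_cons (edge_cons (edge_cons (edge_cons (edge_cons (edge_cons (edge_cons (edge_cons (edge_cons (edge_cons (edge_cons (edge_nil two0) two0_e0) two0_e70) two0_e140) two0_e210) two0_e280) two0_e350) two0_e420) two0_e490) two0_e560) two0_e630) two0_e700) two0_e770) two0_e840) two0_e910) two0_e980) two0_e1050) two0_e1120) two0_e1190) two0_e1260) two0_e1330) two0_e1400) two0_e1470) two0_e1540) two0_e1610

end Cfsg.Agent.ThMat
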