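import Cfsg.Agent.ThMat.OrbitData
import Cfsg.Agent.ThMat.Edge

/-! Generated: images of orbit points. -/

set_option Elab.async false
set_option maxRecDepth 100000

namespace Cfsg.Agent.ThMat

theorem two1_e0 : edgeC two1 0 9 = true := by decide +kernel

theorem two1_e9 : edgeC two1 9 8 = true := by decide +kernel

theorem two1_e17 : edgeC two1 17 7 = true := by decide +kernel

theorem two1_e24 : edgeC two1 24 9 = true := by decide +kernel

theorem two1_e33 : edgeC two1 33 9 = true := by decide +kernel

theorem two1_e42 : edgeC two1 42 8 = true := by decide +kernel

theorem two1_e50 : edgeC two1 50 7 = true := by decide +kernel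

theorem two1_e57 : edgeC two1 57 9 = true := by decide +kernel

theorem two1_e66 : edgeC two1 66 9 = true := by decide +kernel

theorem two1_e75 : edgeC two1 75 8 = true := by decide +kernel

theorem two1_e83 : edgeC two1 83 7 = true := by decide +kernel

theorem two1_e90 : edgeC two1 90 9 = true := by decide +kernel

theorem two1_e99 : edgeC two1 99 9 = true := by decide +kernel

theorem two1_e108 : edgeC two1 108 8 = true := by decide +kernel

theorem two1_e116 : edgeC two1 116 7 = true := by decide +kernel

theorem two1_e123 : edgeC two1 123 9 = true := by decide +kernel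

theorem two1_e132 : edgeC two1 132 9 = true := by decide +kernel

theorem two1_e141 : edgeC two1 141 8 = true := by decide +kernel

theorem two1_e149 : edgeC two1 149 7 = true := by decide +kernel

theorem two1_e156 : edgeC two1 156 9 = true := by decide +kernel

theorem two1_e165 : edgeC two1 165 9 = true := by decide +kernel

theorem two1_e174 : edgeC two1 174 2 = true := by decide +kernel

theorem two1_edges : ∀ k < 176, edgeP two1 k :=
  edge_cons (edge_cons (edge_cons (edge_cons (edge_cons (edge_cons (edge_cons (edge_cons (edge_cons (edge_cons (edge_cons (edge_cons (edge_cons (edge_cons (edge_cons (edge_cons (edge_cons (edge_cons (edge_cons (edge_cons (edge_cons (edge_cons (edge_nil two1) two1_e0) two1_e9) two1_e17) two1_e24) two1_e33) two1_e42) two1_e50) two1_e57) two1_e66) two1_e75) two1_e83) two1_e90) two1_e99) two1_e108) two1_e116) two1_e123) two1_e132) two1_e141) two1_e149) two1_e156) two1_e165) two1_e174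

end Cfsg.Agent.ThMat
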