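import Cfsg.Agent.ThMat.OrbitData
import Cfsg.Agent.ThMat.Edge

/-! Generated: images of orbit points. -/

set_option Elab.async false
set_option maxRecDepth 100000

namespace Cfsg.Agent.ThMat

theorem three2_e0 : edgeC three2 0 11 = true := by decide +kernel

theorem three2_e11 : edgeC three2 11 11 = true := by decide +kernel

theorem three2_e22 : edgeC three2 22 11 = true := by decide +kernel

theorem three2_e33 : edgeC three2 33 11 = true := by decide +kernel

theorem three2_e44 : edgeC three2 44 11 = true := by decide +kernel

theorem three2_e55 : edgeC three2 55 11 = true := by decide +kernel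

theorem three2_e66 : edgeC three2 66 11 = true := by decide +kernel

theorem three2_e77 : edgeC three2 77 11 = true := by decide +kernel

theorem three2_e88 : edgeC three2 88 11 = true := by decide +kernel

theorem three2_e99 : edgeC three2 99 11 = true := by decide +kernel

theorem three2_e110 : edgeC three2 110 11 = true := by decide +kernel

theorem three2_e121 : edgeC three2 121 11 = true := by decide +kernel

theorem three2_e132 : edgeC three2 132 11 = true := by decide +kernel

theorem three2_e143 : edgeC three2 143 11 = true := by decide +kernel

theorem three2_e154 : edgeC three2 154 8 = true := by decide +kernel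

theorem three2_edges : ∀ k < 162, edgeP three2 k :=
  edge_cons (edge_cons (edge_cons (edge_cons (edge_cons (edge_cons (edge_cons (edge_cons (edge_cons (edge_cons (edge_cons (edge_cons (edge_cons (edge_cons (edge_cons (edge_nil three2) three2_e0) three2_e11) three2_e22) three2_e33) three2_e44) three2_e55) three2_e66) three2_e77) three2_e88) three2_e99) three2_e110) three2_e121) three2_e132) three2_e143) three2_e154

theorem three1_e0 : edgeC three1 0 18 = true := by decide +kernel

theorem three1_e18 : edgeC three1 18 18 = true := by decide +kernel

theorem three1_edges : ∀ k < 36, edgeP three1 k :=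
  edge_cons (edge_cons (edge_nil three1) three1_e0) three1_e18

theorem two3_e0 : edgeC two3 0 12 = true := by decide +kernel

theorem two3_edges : ∀ k < 12, edgeP two3 k :=
  edge_cons (edge_nil two3) two3_e0

theorem seven0_e0 : edgeC seven0 0 14 = true := by decide +kernel

theorem seven0_edges : ∀ k < 14, edgeP seven0 k :=
  edge_cons (edge_nil seven0) seven0_e0

theorem two5_e0 : edgeC two5 0 8 = true := by decide +kernel

theorem two5_edges : ∀ k < 8, edgeP two5 k :=
  edge_cons (edge_nil two5) two5_e0

theorem seven1_e0 : edgeC seven1 0 7 = true := by decide +kernel

theorem seven1_edges : ∀ k < 7, edgeP seven1 k :=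
  edge_cons (edge_nil seven1) seven1_e0

theorem two8_e0 : edgeC two8 0 2 = true := by decide +kernel

theorem two8_edges : ∀ k < 2, edgeP two8 k :=
  edge_cons (edge_nil two8) two8_e0

end Cfsg.Agent.ThMat
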