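import Cfsg.Agent.ThMat.OrbitData
import Cfsg.Agent.ThMat.Edge

/-! Generated: images of orbit points. -/

set_option Elab.async false
set_option maxRecDepth 100000

namespace Cfsg.Agent.ThMat

theorem p310_e0 : edgeC p310 0 3 = true := by decide +kernel

theorem p310_e3 : edgeC p310 3 3 = true := by decide +kernel

theorem p310_e6 : edgeC p310 6 3 = true := by decide +kernel

theorem p310_e9 : edgeC p310 9 3 = true := by decide +kernel

theorem p310_e12 : edgeC p310 12 3 = true := by decide +kernel

theorem p310_e15 : edgeC p310 15 3 = true := by decide +kernel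

theorem p310_e18 : edgeC p310 18 3 = true := by decide +kernel

theorem p310_e21 : edgeC p310 21 3 = true := by decide +kernel

theorem p310_e24 : edgeC p310 24 3 = true := by decide +kernel

theorem p310_e27 : edgeC p310 27 3 = true := by decide +kernel

theorem p310_e30 : edgeC p310 30 1 = true := by decide +kernel

theorem p310_edges : ∀ k < 31, edgeP p310 k :=
  edge_cons (edge_cons (edge_cons (edge_cons (edge_cons (edge_cons (edge_cons (edge_cons (edge_cons (edge_cons (edge_cons (edge_nil p310) p310_e0) p310_e3) p310_e6) p310_e9) p310_e12) p310_e15) p310_e18) p310_e21) p310_e24) p310_e27) p310_e30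

theorem p130_e0 : edgeC p130 0 5 = true := by decide +kernel

theorem p130_e5 : edgeC p130 5 5 = true := by decide +kernel

theorem p130_e10 : edgeC p130 10 3 = true := by decide +kernel

theorem p130_edges : ∀ k < 13, edgeP p130 k :=
  edge_cons (edge_cons (edge_cons (edge_nil p130) p130_e0) p130_e5) p130_e10

theorem p190_e0 : edgeC p190 0 8 = true := by decide +kernel

theorem p190_e8 : edgeC p190 8 8 = true := by decide +kernel

theorem p190_e16 : edgeC p190 16 3 = true := by decide +kernel

theorem p190_edges : ∀ k < 19, edgeP p190 k :=
  edge_cons (edge_cons (edge_cons (edge_nil p190) p190_e0) p190_e8) p190_e16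

theorem two2_e0 : edgeC two2 0 14 = true := by decide +kernel

theorem two2_edges : ∀ k < 14, edgeP two2 k :=
  edge_cons (edge_nil two2) two2_e0

theorem two4_e0 : edgeC two4 0 10 = true := by decide +kernel

theorem two4_edges : ∀ k < 10, edgeP two4 k :=
  edge_cons (edge_nil two4) two4_e0

theorem five1_e0 : edgeC five1 0 5 = true := by decide +kernel

theorem five1_edges : ∀ k < 5, edgeP five1 k :=
  edge_cons (edge_nil five1) five1_e0

theorem three3_e0 : edgeC three3 0 3 = true := by decide +kernel

theorem three3_edges : ∀ k < 3, edgeP three3 k :=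
  edge_cons (edge_nil three3) three3_e0

theorem two6_e0 : edgeC two6 0 6 = true := by decide +kernel

theorem two6_edges : ∀ k < 6, edgeP two6 k :=
  edge_cons (edge_nil two6) two6_e0

theorem two7_e0 : edgeC two7 0 4 = true := by decide +kernel

theorem two7_edges : ∀ k < 4, edgeP two7 k :=
  edge_cons (edge_nil two7) two7_e0

end Cfsg.Agent.ThMat
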