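import Cfsg.Agent.ThMat.OrbitCheck0
import Cfsg.Agent.ThMat.OrbitCheck1
import Cfsg.Agent.ThMat.OrbitCheck2
import Cfsg.Agent.ThMat.OrbitCheck3
import Cfsg.Agent.ThMat.OrbitCheck4
import Cfsg.Agent.ThMat.OrbitCheck5
import Cfsg.Agent.ThMat.Level

/-! Generated: the orbit chains are consistent. -/

set_option Elab.async false
set_option maxRecDepth 100000

namespace Cfsg.Agent.ThMat

theorem two0_shape : shapeC two0 = true := by decide +kernel

theorem two0_pts : rowC two0.top = true := by decide +kernel

theorem two0_len : two0.tgt.length = 1680 := by decide +kernel

theorem two0_ok : LevOK two0 := levOK_of_checks two0_shape two0_pts (two0_len ▸ two0_edges)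

theorem two1_shape : shapeC two1 = true := by decide +kernel

theorem two1_pts : rowC two1.top = true := by decide +kernel

theorem two1_len : two1.tgt.length = 176 := by decide +kernel

theorem two1_ok : LevOK two1 := levOK_of_checks two1_shape two1_pts (two1_len ▸ two1_edges)

theorem two1_link : linkC two0 two1 = true := by decide +kernel

theorem two2_shape : shapeC two2 = true := by decide +kernel

theorem two2_pts : rowC two2.top = true := by decide +kernel

theorem two2_len : two2.tgt.length = 14 := by decide +kernel

theorem two2_ok : LevOK two2 := levOK_of_checks two2_shape two2_pts (two2_len ▸ two2_edges)

theorem two2_link : linkC two1 two2 = true := by decide +kernel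

theorem two3_shape : shapeC two3 = true := by decide +kernel

theorem two3_pts : rowC two3.top = true := by decide +kernel

theorem two3_len : two3.tgt.length = 12 := by decide +kernel

theorem two3_ok : LevOK two3 := levOK_of_checks two3_shape two3_pts (two3_len ▸ two3_edges)

theorem two3_link : linkC two2 two3 = true := by decide +kernel

theorem two4_shape : shapeC two4 = true := by decide +kernel

theorem two4_pts : rowC two4.top = true := by decide +kernel

theorem two4_len : two4.tgt.length = 10 := by decide +kernel

theorem two4_ok : LevOK two4 := levOK_of_checks two4_shape two4_pts (two4_len ▸ two4_edges)

theorem two4_link : linkC two3 two4 = true := by decide +kernel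

theorem two5_shape : shapeC two5 = true := by decide +kernel

theorem two5_pts : rowC two5.top = true := by decide +kernel

theorem two5_len : two5.tgt.length = 8 := by decide +kernel

theorem two5_ok : LevOK two5 := levOK_of_checks two5_shape two5_pts (two5_len ▸ two5_edges)

theorem two5_link : linkC two4 two5 = true := by decide +kernel

theorem two6_shape : shapeC two6 = true := by decide +kernel

theorem two6_pts : rowC two6.top = true := by decide +kernel

theorem two6_len : two6.tgt.length = 6 := by decide +kernel

theorem two6_ok : LevOK two6 := levOK_of_checks two6_shape two6_pts (two6_len ▸ two6_edges)

theorem two6_link : linkC two5 two6 = true := by decide +kernel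

theorem two7_shape : shapeC two7 = true := by decide +kernel

theorem two7_pts : rowC two7.top = true := by decide +kernel

theorem two7_len : two7.tgt.length = 4 := by decide +kernel

theorem two7_ok : LevOK two7 := levOK_of_checks two7_shape two7_pts (two7_len ▸ two7_edges)

theorem two7_link : linkC two6 two7 = true := by decide +kernel

theorem two8_shape : shapeC two8 = true := by decide +kernel

theorem two8_pts : rowC two8.top = true := by decide +kernel

theorem two8_len : two8.tgt.length = 2 := by decide +kernel

theorem two8_ok : LevOK two8 := levOK_of_checks two8_shape two8_pts (two8_len ▸ two8_edges)

theorem two8_link : linkC two7 two8 = true := by decide +kernel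

theorem three0_shape : shapeC three0 = true := by decide +kernel

theorem three0_pts : rowC three0.top = true := by decide +kernel

theorem three0_len : three0.tgt.length = 297 := by decide +kernel

theorem three0_ok : LevOK three0 := levOK_of_checks three0_shape three0_pts (three0_len ▸ three0_edges)

theorem three1_shape : shapeC three1 = true := by decide +kernel

theorem three1_pts : rowC three1.top = true := by decide +kernel

theorem three1_len : three1.tgt.length = 36 := by decide +kernel

theorem three1_ok : LevOK three1 := levOK_of_checks three1_shape three1_pts (three1_len ▸ three1_edges)

theorem three1_link : linkC three0 three1 = true := by decide +kernel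

theorem three2_shape : shapeC three2 = true := by decide +kernel

theorem three2_pts : rowC three2.top = true := by decide +kernel

theorem three2_len : three2.tgt.length = 162 := by decide +kernel

theorem three2_ok : LevOK three2 := levOK_of_checks three2_shape three2_pts (three2_len ▸ three2_edges)

theorem three2_link : linkC three1 three2 = true := by decide +kernel

theorem three3_shape : shapeC three3 = true := by decide +kernel

theorem three3_pts : rowC three3.top = true := by decide +kernel

theorem three3_len : three3.tgt.length = 3 := by decide +kernel

theorem three3_ok : LevOK three3 := levOK_of_checks three3_shape three3_pts (three3_len ▸ three3_edges)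

theorem three3_link : linkC three2 three3 = true := by decide +kernel

theorem five0_shape : shapeC five0 = true := by decide +kernel

theorem five0_pts : rowC five0.top = true := by decide +kernel

theorem five0_len : five0.tgt.length = 75 := by decide +kernel

theorem five0_ok : LevOK five0 := levOK_of_checks five0_shape five0_pts (five0_len ▸ five0_edges)

theorem five1_shape : shapeC five1 = true := by decide +kernel

theorem five1_pts : rowC five1.top = true := by decide +kernel

theorem five1_len : five1.tgt.length = 5 := by decide +kernel

theorem five1_ok : LevOK five1 := levOK_of_checks five1_shape five1_pts (five1_len ▸ five1_edges)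

theorem five1_link : linkC five0 five1 = true := by decide +kernel

theorem seven0_shape : shapeC seven0 = true := by decide +kernel

theorem seven0_pts : rowC seven0.top = true := by decide +kernel

theorem seven0_len : seven0.tgt.length = 14 := by decide +kernel

theorem seven0_ok : LevOK seven0 := levOK_of_checks seven0_shape seven0_pts (seven0_len ▸ seven0_edges)

theorem seven1_shape : shapeC seven1 = true := by decide +kernel

theorem seven1_pts : rowC seven1.top = true := by decide +kernel

theorem seven1_len : seven1.tgt.length = 7 := by decide +kernel

theorem seven1_ok : LevOK seven1 := levOK_of_checks seven1_shape seven1_pts (seven1_len ▸ seven1_edges)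

theorem seven1_link : linkC seven0 seven1 = true := by decide +kernel

theorem p130_shape : shapeC p130 = true := by decide +kernel

theorem p130_pts : rowC p130.top = true := by decide +kernel

theorem p130_len : p130.tgt.length = 13 := by decide +kernel

theorem p130_ok : LevOK p130 := levOK_of_checks p130_shape p130_pts (p130_len ▸ p130_edges)

theorem p190_shape : shapeC p190 = true := by decide +kernel

theorem p190_pts : rowC p190.top = true := by decide +kernel

theorem p190_len : p190.tgt.length = 19 := by decide +kernel

theorem p190_ok : LevOK p190 := levOK_of_checks p190_shape p190_pts (p190_len ▸ p190_edges)

theorem p310_shape : shapeC p310 = true := by decide +kernel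

theorem p310_pts : rowC p310.top = true := by decide +kernel

theorem p310_len : p310.tgt.length = 31 := by decide +kernel

theorem p310_ok : LevOK p310 := levOK_of_checks p310_shape p310_pts (p310_len ▸ p310_edges)

end Cfsg.Agent.ThMat
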