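import Mathlib
import Cfsg.Agent.CosetCert.Basic

/-!
# Packed matrices modulo 3

A row is one number with fields of 24 bits; products are reduced field by field.
-/

set_option autoImplicit false
set_option maxRecDepth 100000

namespace Cfsg.Agent.ThMat

open Cfsg.Agent.CosetCert

/-- A field. -/
def fieldN (r i : Nat) : Nat := r / 16777216 ^ i % 16777216

/-- Twenty-eight rows. -/
structure Blk where
  r0 : Nat
  r1 : Nat
  r2 : Nat
  r3 : Nat
  r4 : Nat
  r5 : Nat
  r6 : Nat
  r7 : Nat
  r8 : Nat
  r9 : Nat
  r10 : Nat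
  r11 : Nat
  r12 : Nat
  r13 : Nat
  r14 : Nat
  r15 : Nat
  r16 : Nat
  r17 : Nat
  r18 : Nat
  r19 : Nat
  r20 : Nat
  r21 : Nat
  r22 : Nat
  r23 : Nat
  r24 : Nat
  r25 : Nat
  r26 : Nat
  r27 : Nat

/-- The rows of a block. -/
def Blk.rows (b : Blk) : List Nat :=
  [b.r0, b.r1, b.r2, b.r3, b.r4, b.r5, b.r6, b.r7, b.r8, b.r9, b.r10, b.r11, b.r12, b.r13, b.r14, b.r15, b.r16, b.r17, b.r18, b.r19, b.r20, b.r21, b.r22, b.r23, b.r24, b.r25, b.r26, b.r27]

/-- All rows of a matrix stored by blocks. -/
def flat (B : List Blk) : List Nat := B.flatMap Blk.rows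

/-- The first `n` rows of a matrix stored by blocks. -/
def rowsOf (n : Nat) (B : List Blk) : List Nat := (flat B).take n

/-- Adding the multiples of the rows given by the fields of `v`, which are below eight. -/
noncomputable def comb (B : List Blk) (v : Nat) : Nat :=
  List.rec (motive := fun _ => Nat → Nat) (fun _ => 0)
    (fun b _ ih v => Blk.rec (motive := fun _ => Nat) (fun r0 r1 r2 r3 r4 r5 r6 r7 r8 r9 r10 r11 r12 r13 r14 r15 r16 r17 r18 r19 r20 r21 r22 r23 r24 r25 r26 r27 =>
        force (ih (Nat.shiftRight v 672)) fun a => Nat.add (Nat.add (Nat.add (Nat.add (Nat.add (Nat.add (Nat.add (Nat.add (Nat.add (Nat.add (Nat.add (Nat.add (Nat.add (Nat.add (Nat.add (Nat.add (Nat.add (Nat.add (Nat.add (Nat.add (Nat.add (Nat.add (Nat.add (Nat.add (Nat.add (Nat.add (Nat.add (Nat.add (a)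
          (Nat.mul (Nat.land (Nat.shiftRight v 0) 7) r0))
          (Nat.mul (Nat.land (Nat.shiftRight v 24) 7) r1))
          (Nat.mul (Nat.land (Nat.shiftRight v 48) 7) r2))
          (Nat.mul (Nat.land (Nat.shiftRight v 72) 7) r3))
          (Nat.mul (Nat.land (Nat.shiftRight v 96) 7) r4))
          (Nat.mul (Nat.land (Nat.shiftRight v 120) 7) r5))
          (Nat.mul (Nat.land (Nat.shiftRight v 144) 7) r6))
          (Nat.mul (Nat.land (Nat.shiftRight v 168) 7) r7))
          (Nat.mul (Nat.land (Nat.shiftRight v 192) 7) r8))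
          (Nat.mul (Nat.land (Nat.shiftRight v 216) 7) r9))
          (Nat.mul (Nat.land (Nat.shiftRight v 240) 7) r10))
          (Nat.mul (Nat.land (Nat.shiftRight v 264) 7) r11))
          (Nat.mul (Nat.land (Nat.shiftRight v 288) 7) r12))
          (Nat.mul (Nat.land (Nat.shiftRight v 312) 7) r13))
          (Nat.mul (Nat.land (Nat.shiftRight v 336) 7) r14))
          (Nat.mul (Nat.land (Nat.shiftRight v 360) 7) r15))
          (Nat.mul (Nat.land (Nat.shiftRight v 384) 7) r16))
          (Nat.mul (Nat.land (Nat.shiftRight v 408) 7) r17))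
          (Nat.mul (Nat.land (Nat.shiftRight v 432) 7) r18))
          (Nat.mul (Nat.land (Nat.shiftRight v 456) 7) r19))
          (Nat.mul (Nat.land (Nat.shiftRight v 480) 7) r20))
          (Nat.mul (Nat.land (Nat.shiftRight v 504) 7) r21))
          (Nat.mul (Nat.land (Nat.shiftRight v 528) 7) r22))
          (Nat.mul (Nat.land (Nat.shiftRight v 552) 7) r23))
          (Nat.mul (Nat.land (Nat.shiftRight v 576) 7) r24))
          (Nat.mul (Nat.land (Nat.shiftRight v 600) 7) r25))
          (Nat.mul (Nat.land (Nat.shiftRight v 624) 7) r26))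
          (Nat.mul (Nat.land (Nat.shiftRight v 648) 7) r27)) b)
    B v

/-- Eleven low bits in each of `k` fields. -/
def maskF : Nat → Nat
  | 0 => 0
  | k + 1 => 2047 + 16777216 * maskF k

/-- Reducing every field below 2048, given the mask. -/
noncomputable def red (msk a : Nat) : Nat :=
  Nat.sub a (Nat.mul 3 (Nat.land (Nat.shiftRight (Nat.mul a 2731) 13) msk))

/-- Packing a function. -/
def pk : Nat → (Nat → Nat) → Nat
  | 0, _ => 0
  | k + 1, f => f 0 + 16777216 * pk k fun i => f (i + 1)

theorem pk_add : ∀ (k : Nat) (f g : Nat → Nat), pk k f + pk k g = pk k fun i => f i + g i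
  | 0, _, _ => rfl
  | k + 1, f, g => by simp only [pk, ← pk_add k]; ring

theorem pk_mul : ∀ (k c : Nat) (f : Nat → Nat), c * pk k f = pk k fun i => c * f i
  | 0, _, _ => by simp [pk]
  | k + 1, c, f => by simp only [pk, ← pk_mul k]; ring

theorem pk_zero : ∀ k : Nat, pk k (fun _ => 0) = 0
  | 0 => rfl
  | k + 1 => by simp [pk, pk_zero k]

theorem pk_congr : ∀ (k : Nat) {f g : Nat → Nat}, (∀ i < k, f i = g i) → pk k f = pk k g
  | 0, _, _, _ => rfl
  | k + 1, _, _, h => by
    simp only [pk]
    rw [h 0 (by omega), pk_congr k fun i hi => h (i + 1) (by omega)]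

theorem pk_sum (k : Nat) (f : Nat → Nat → Nat) : ∀ n : Nat,
    ∑ l ∈ Finset.range n, pk k (f l) = pk k fun i => ∑ l ∈ Finset.range n, f l i
  | 0 => by simp [pk_zero]
  | n + 1 => by simp only [Finset.sum_range_succ, pk_sum k f n, pk_add]

theorem field_succ (a i : Nat) : fieldN a (i + 1) = fieldN (a / 16777216) i := by
  rw [fieldN, fieldN, pow_succ', Nat.div_div_eq_div_mul]

theorem field_pk : ∀ (k : Nat) (f : Nat → Nat), (∀ i < k, f i < 16777216) →
    ∀ i < k, fieldN (pk k f) i = f i
  | 0, _, _, i, hi => absurd hi (Nat.not_lt_zero i)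
  | k + 1, f, h, 0, _ => by
    have := h 0 (by omega)
    simp only [fieldN, pk, pow_zero, Nat.div_one]
    omega
  | k + 1, f, h, i + 1, hi => by
    have h0 := h 0 (by omega)
    rw [field_succ, pk, show (f 0 + 16777216 * pk k fun i => f (i + 1)) / 16777216 =
      pk k fun i => f (i + 1) by omega]
    exact field_pk k _ (fun j hj => h _ (by omega)) i (by omega)

theorem pk_field : ∀ (k a : Nat), a < 16777216 ^ k → pk k (fieldN a) = a
  | 0, a, h => by simp [pk] at h ⊢; omega
  | k + 1, a, h => by
    have ha : a / 16777216 < 16777216 ^ k := by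
      rw [Nat.div_lt_iff_lt_mul (by norm_num), ← pow_succ]
      exact h
    simp only [pk, field_succ, pk_field k _ ha]
    simp only [fieldN, pow_zero, Nat.div_one]
    omega

theorem pk_lt : ∀ (k : Nat) (f : Nat → Nat), (∀ i < k, f i < 16777216) → pk k f < 16777216 ^ k
  | 0, _, _ => by simp [pk]
  | k + 1, f, h => by
    have h0 := h 0 (by omega)
    have ih := pk_lt k (fun i => f (i + 1)) fun i hi => h _ (by omega)
    simp only [pk]
    rw [pow_succ']
    omega

theorem land_mask : ∀ (k : Nat) (g : Nat → Nat), (∀ i < k, g i < 16777216) →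
    Nat.land (Nat.shiftRight (pk k g) 13) (maskF k) = pk k fun i => g i / 8192
  | 0, _, _ => by simp [pk, maskF]
  | k + 1, g, h => by
    have h0 := h 0 (by omega)
    have ih := land_mask k (fun i => g (i + 1)) fun i hi => h _ (by omega)
    change (pk k (fun i => g (i + 1)) >>> 13) &&& maskF k = _ at ih
    show (pk (k + 1) g >>> 13) &&& maskF (k + 1) = _
    rw [Nat.shiftRight_eq_div_pow] at ih ⊢
    simp only [pk, maskF]
    generalize pk k (fun i => g (i + 1)) = P at ih ⊢
    rw [← ih]
    generalize maskF k = m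
    norm_num
    generalize hx : (g 0 + 16777216 * P) / 8192 = x
    have e1 : (x &&& (2047 + 16777216 * m)) % 2 ^ 24 = g 0 / 8192 := by
      rw [Nat.and_mod_two_pow, show (2047 + 16777216 * m) % 2 ^ 24 = 2 ^ 11 - 1 by omega,
        Nat.and_two_pow_sub_one_eq_mod]
      omega
    have e2 : (x &&& (2047 + 16777216 * m)) / 2 ^ 24 = P / 8192 &&& m := by
      rw [Nat.and_div_two_pow, show (2047 + 16777216 * m) / 2 ^ 24 = m by omega,
        show x / 2 ^ 24 = P / 8192 by omega]
    omega

theorem red_pk (n : Nat) (f : Nat → Nat) (h : ∀ i < n, f i < 2048) :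
    red (maskF n) (pk n f) = pk n fun i => f i % 3 := by
  have e1 : Nat.mul (pk n f) 2731 = pk n fun i => 2731 * f i := by
    rw [← pk_mul]; exact Nat.mul_comm _ _
  rw [red, e1, land_mask n _ fun i hi => by have := h i hi; omega]
  show pk n f - 3 * pk n _ = _
  rw [pk_mul]
  have e2 : pk n f = pk n (fun i => f i % 3) + pk n fun i => 3 * (2731 * f i / 8192) := by
    rw [pk_add]
    refine pk_congr n fun i hi => ?_
    have := h i hi
    have hb : f i % 3 ≤ 2 := by omega
    omega
  omega

attribute [local irreducible] pk maskF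

/-- A good matrix: `n` rows of `n` reduced fields. -/
def Good (n : Nat) (A : List Nat) : Prop :=
  A.length = n ∧ ∀ r ∈ A, ∃ f : Nat → Nat, (∀ j, f j < 3) ∧ r = pk n f

/-- The check of a good matrix. -/
noncomputable def goodC (n : Nat) (A : List Nat) : Bool :=
  Nat.beq A.length n && A.all fun r => Nat.blt r (16777216 ^ n) &&
    allFrom (fun j => Nat.blt (fieldN r j) 3) 0 n

theorem good_of_check {n : Nat} {A : List Nat} (h : goodC n A = true) : Good n A := by
  simp only [goodC, Bool.and_eq_true, List.all_eq_true, Nat.blt_eq] at h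
  refine ⟨Nat.eq_of_beq_eq_true h.1, fun r hr => ⟨fun j => if j < n then fieldN r j else 0,
    fun j => ?_, ?_⟩⟩
  · show (if j < n then fieldN r j else 0) < 3
    split
    · exact Nat.blt_eq.mp ((allFrom_iff _ _ _).1 (h.2 r hr).2 j (Nat.zero_le _) (by omega))
    · norm_num
  · conv_lhs => rw [← pk_field n r (h.2 r hr).1]
    exact pk_congr n fun j hj => by rw [if_pos hj]

/-- The matrix of a list of rows. -/
def toMat (n : Nat) (A : List Nat) : Matrix (Fin n) (Fin n) (ZMod 3) :=
  Matrix.of fun i j => ((fieldN (A.getD i 0) j : ℕ) : ZMod 3)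

theorem field_shift (v l : Nat) : fieldN (Nat.shiftRight v 672) l = fieldN v (28 + l) := by
  show fieldN (v >>> 672) l = _
  rw [fieldN, fieldN, Nat.shiftRight_eq_div_pow, Nat.div_div_eq_div_mul,
    show (2 : Nat) ^ 672 = 16777216 ^ 28 by rw [show (16777216 : Nat) = 2 ^ 24 by norm_num, ← pow_mul],
    ← pow_add]

theorem field_low (v i : Nat) (h : fieldN v i < 8) :
    Nat.land (Nat.shiftRight v (24 * i)) 7 = fieldN v i := by
  show (v >>> (24 * i)) &&& 7 = _
  rw [Nat.shiftRight_eq_div_pow, show (2 : Nat) ^ (24 * i) = 16777216 ^ i by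
      rw [show (16777216 : Nat) = 2 ^ 24 by norm_num, ← pow_mul],
    show (7 : Nat) = 2 ^ 3 - 1 by norm_num, Nat.and_two_pow_sub_one_eq_mod]
  rw [fieldN] at h ⊢
  have := Nat.mod_add_div (v / 16777216 ^ i) 16777216
  omega

theorem rows_length (b : Blk) : b.rows.length = 28 := rfl

theorem comb_eq : ∀ (B : List Blk) (v : Nat), (∀ l, fieldN v l < 8) →
    comb B v = ∑ l ∈ Finset.range (flat B).length, fieldN v l * (flat B).getD l 0
  | [], _, _ => by simp [comb, flat]
  | b :: B, v, h => by
    have hlen : (flat (b :: B)).length = 28 + (flat B).length := by simp [flat, rows_length]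
    have hflat : ∀ l, (flat (b :: B)).getD (28 + l) 0 = (flat B).getD l 0 := fun l => by
      simp only [flat, List.flatMap_cons]
      rw [List.getD_append_right _ _ _ _ (by rw [rows_length]; omega), rows_length,
        show 28 + l - 28 = l by omega]
    have hb : ∀ l < 28, (flat (b :: B)).getD l 0 = b.rows.getD l 0 := fun l hl => by
      simp only [flat, List.flatMap_cons]
      rw [List.getD_append _ _ _ _ (by rw [rows_length]; omega)]
    have hlow : ∑ l ∈ Finset.range 28, fieldN v l * (flat (b :: B)).getD l 0 =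
        ∑ l ∈ Finset.range 28, Nat.land (Nat.shiftRight v (24 * l)) 7 * b.rows.getD l 0 :=
      Finset.sum_congr rfl fun l hl => by rw [field_low v l (h l), hb l (Finset.mem_range.1 hl)]
    have ih := comb_eq B (Nat.shiftRight v 672) fun l => by rw [field_shift]; exact h _
    rw [hlen, Finset.sum_range_add, hlow,
      show (∑ x ∈ Finset.range (flat B).length, fieldN v (28 + x) * (flat (b :: B)).getD (28 + x) 0) =
        comb B (Nat.shiftRight v 672) by
          rw [ih]; exact Finset.sum_congr rfl fun l _ => by rw [field_shift, hflat]]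
    obtain ⟨r0, r1, r2, r3, r4, r5, r6, r7, r8, r9, r10, r11, r12, r13, r14, r15, r16, r17, r18, r19, r20, r21, r22, r23, r24, r25, r26, r27⟩ := b
    have hc : comb (⟨r0, r1, r2, r3, r4, r5, r6, r7, r8, r9, r10, r11, r12, r13, r14, r15, r16, r17, r18, r19, r20, r21, r22, r23, r24, r25, r26, r27⟩ :: B) v = force (comb B (Nat.shiftRight v 672)) (fun a => Nat.add (Nat.add (Nat.add (Nat.add (Nat.add (Nat.add (Nat.add (Nat.add (Nat.add (Nat.add (Nat.add (Nat.add (Nat.add (Nat.add (Nat.add (Nat.add (Nat.add (Nat.add (Nat.add (Nat.add (Nat.add (Nat.add (Nat.add (Nat.add (Nat.add (Nat.add (Nat.add (Nat.add (a)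
          (Nat.mul (Nat.land (Nat.shiftRight v 0) 7) r0))
          (Nat.mul (Nat.land (Nat.shiftRight v 24) 7) r1))
          (Nat.mul (Nat.land (Nat.shiftRight v 48) 7) r2))
          (Nat.mul (Nat.land (Nat.shiftRight v 72) 7) r3))
          (Nat.mul (Nat.land (Nat.shiftRight v 96) 7) r4))
          (Nat.mul (Nat.land (Nat.shiftRight v 120) 7) r5))
          (Nat.mul (Nat.land (Nat.shiftRight v 144) 7) r6))
          (Nat.mul (Nat.land (Nat.shiftRight v 168) 7) r7))
          (Nat.mul (Nat.land (Nat.shiftRight v 192) 7) r8))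
          (Nat.mul (Nat.land (Nat.shiftRight v 216) 7) r9))
          (Nat.mul (Nat.land (Nat.shiftRight v 240) 7) r10))
          (Nat.mul (Nat.land (Nat.shiftRight v 264) 7) r11))
          (Nat.mul (Nat.land (Nat.shiftRight v 288) 7) r12))
          (Nat.mul (Nat.land (Nat.shiftRight v 312) 7) r13))
          (Nat.mul (Nat.land (Nat.shiftRight v 336) 7) r14))
          (Nat.mul (Nat.land (Nat.shiftRight v 360) 7) r15))
          (Nat.mul (Nat.land (Nat.shiftRight v 384) 7) r16))
          (Nat.mul (Nat.land (Nat.shiftRight v 408) 7) r17))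
          (Nat.mul (Nat.land (Nat.shiftRight v 432) 7) r18))
          (Nat.mul (Nat.land (Nat.shiftRight v 456) 7) r19))
          (Nat.mul (Nat.land (Nat.shiftRight v 480) 7) r20))
          (Nat.mul (Nat.land (Nat.shiftRight v 504) 7) r21))
          (Nat.mul (Nat.land (Nat.shiftRight v 528) 7) r22))
          (Nat.mul (Nat.land (Nat.shiftRight v 552) 7) r23))
          (Nat.mul (Nat.land (Nat.shiftRight v 576) 7) r24))
          (Nat.mul (Nat.land (Nat.shiftRight v 600) 7) r25))
          (Nat.mul (Nat.land (Nat.shiftRight v 624) 7) r26))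
          (Nat.mul (Nat.land (Nat.shiftRight v 648) 7) r27)) := rfl
    rw [hc, force_eq]
    generalize comb B (Nat.shiftRight v 672) = a
    simp only [Finset.sum_range_succ, Finset.sum_range_zero, Blk.rows, List.getD_cons_succ,
      List.getD_cons_zero, Nat.add_eq, Nat.mul_eq, Nat.reduceMul, Nat.zero_add]
    ring

theorem mul_spec {n : Nat} (hn : n ≤ 500) {A : List Nat} {B : List Blk} (hA : Good n A)
    (hB : Good n (rowsOf n B)) :
    Good n (A.map fun r => red (maskF n) (comb B r)) ∧
      toMat n (A.map fun r => red (maskF n) (comb B r)) = toMat n A * toMat n (rowsOf n B) := by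
  obtain ⟨hAl, hA⟩ := hA
  obtain ⟨hBl, hB⟩ := hB
  have hlen : n ≤ (flat B).length := by
    rw [rowsOf, List.length_take] at hBl
    omega
  have hBf : ∀ l, l < n → ∃ f : Nat → Nat, (∀ j, f j < 3) ∧ (rowsOf n B).getD l 0 = pk n f := by
    intro l hl
    rw [List.getD_eq_getElem _ _ (hBl.symm ▸ hl)]
    exact hB _ (List.getElem_mem _)
  choose F hF7 hFeq using hBf
  have hrow : ∀ l, l < n → (flat B).getD l 0 = (rowsOf n B).getD l 0 := by
    intro l hl
    rw [rowsOf, List.getD_eq_getElem _ _ (lt_of_lt_of_le hl hlen),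
      List.getD_eq_getElem _ _ (by rw [List.length_take]; omega), List.getElem_take]
  let F' : Nat → Nat → Nat := fun l j => if h : l < n then F l h j else 0
  have hF' : ∀ l j, F' l j ≤ 2 := by
    intro l j
    simp only [F']
    split
    · have := hF7 l ‹_› j
      omega
    · omega
  have key : ∀ r ∈ A, red (maskF n) (comb B r) =
      pk n (fun j => (∑ l ∈ Finset.range n, fieldN r l * F' l j) % 3) := by
    intro r hr
    obtain ⟨f, hf, hfr⟩ := hA r hr
    rw [hfr]
    have hzero : ∀ l, n ≤ l → fieldN (pk n f) l = 0 := by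
      intro l hl
      have hb := pk_lt n f fun i _ => (hf i).trans (by norm_num)
      rw [fieldN, Nat.div_eq_of_lt (lt_of_lt_of_le hb (Nat.pow_le_pow_right (by norm_num) hl)),
        Nat.zero_mod]
    have h8 : ∀ l, fieldN (pk n f) l < 8 := by
      intro l
      rcases Nat.lt_or_ge l n with h | h
      · rw [field_pk n f (fun i _ => (hf i).trans (by norm_num)) l h]
        exact (hf l).trans (by norm_num)
      · rw [hzero l h]; norm_num
    have e : comb B (pk n f) = pk n (fun j => ∑ l ∈ Finset.range n, fieldN (pk n f) l * F' l j) := by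
      rw [comb_eq B _ h8, ← pk_sum, show (flat B).length = n + ((flat B).length - n) by omega,
        Finset.sum_range_add]
      rw [show (∑ x ∈ Finset.range ((flat B).length - n),
          fieldN (pk n f) (n + x) * (flat B).getD (n + x) 0) = 0 from
        Finset.sum_eq_zero fun x _ => by rw [hzero _ (by omega), Nat.zero_mul], Nat.add_zero]
      refine Finset.sum_congr rfl fun l hl => ?_
      have hl' := Finset.mem_range.1 hl
      rw [← pk_mul, hrow l hl', hFeq l hl']
      congr 1
      exact pk_congr n fun j _ => by simp [F', hl']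
    rw [e, red_pk]
    intro j _
    calc (∑ l ∈ Finset.range n, fieldN (pk n f) l * F' l j) ≤ ∑ l ∈ Finset.range n, 4 := by
          refine Finset.sum_le_sum fun l hl => ?_
          rw [field_pk n f (fun i _ => (hf i).trans (by norm_num)) l (Finset.mem_range.1 hl)]
          have h1 := hf l
          calc f l * F' l j ≤ 2 * 2 := Nat.mul_le_mul (by omega) (hF' l j)
            _ = 4 := by norm_num
      _ < 2048 := by simp; omega
  refine ⟨⟨by simpa using hAl, fun x hx => ?_⟩, ?_⟩
  · obtain ⟨r, hr, rfl⟩ := List.mem_map.1 hx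
    exact ⟨_, fun j => Nat.mod_lt _ (by norm_num), key r hr⟩
  ext i j
  have hi : (i : Nat) < A.length := hAl.symm ▸ i.2
  rw [Matrix.mul_apply]
  simp only [toMat, Matrix.of_apply]
  rw [List.getD_eq_getElem _ _ (by simpa using hi), List.getElem_map, key _ (List.getElem_mem _),
    field_pk n _ (fun l _ => (Nat.mod_lt _ (by norm_num)).trans (by norm_num)) j j.2,
    ZMod.natCast_mod, Nat.cast_sum, Finset.sum_range]
  refine Finset.sum_congr rfl fun l _ => ?_
  rw [Nat.cast_mul, List.getD_eq_getElem _ _ hi]
  congr 1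
  rw [hFeq l l.2, field_pk n _ (fun m _ => (hF7 l l.2 m).trans (by norm_num)) j j.2]
  simp [F', l.2]

/-- The identity, with `n` rows. -/
def idM (n : Nat) : List Nat := (List.range n).map fun i => 16777216 ^ i

/-- The image of a row under a product of matrices of `G`; every step is finished before the
next one starts. -/
noncomputable def rowW (msk : Nat) (G : Nat → List Blk) (w : List Nat) (v : Nat) : Nat :=
  List.rec (motive := fun _ => Nat → Nat) (fun v => v)
    (fun x _ ih v => force (red msk (comb (G x) v)) ih) w v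

theorem rowW_cons (msk : Nat) (G : Nat → List Blk) (x : Nat) (w : List Nat) (v : Nat) :
    rowW msk G (x :: w) v = rowW msk G w (red msk (comb (G x) v)) := by
  show force (red msk (comb (G x) v)) (rowW msk G w) = _
  rw [force_eq]

/-- A row of the identity is fixed by the product over a word. -/
noncomputable def rowFix (msk : Nat) (G : Nat → List Blk) (w : List Nat) (i : Nat) : Bool :=
  force (Nat.shiftLeft 1 (Nat.mul 24 i)) fun v => Nat.beq (rowW msk G w v) v

theorem rowW_of_fix {msk : Nat} {G : Nat → List Blk} {w : List Nat} {i : Nat}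
    (h : rowFix msk G w i = true) : rowW msk G w (16777216 ^ i) = 16777216 ^ i := by
  have e : Nat.shiftLeft 1 (Nat.mul 24 i) = 16777216 ^ i := by
    show 1 <<< (24 * i) = _
    rw [Nat.one_shiftLeft, pow_mul, show (2 : Nat) ^ 24 = 16777216 by norm_num]
  rw [rowFix, force_eq, e] at h
  exact Nat.eq_of_beq_eq_true h

theorem word_spec {n : Nat} (hn : n ≤ 500) (G : Nat → List Blk) (hG : ∀ x, Good n (rowsOf n (G x))) :
    ∀ (w P : List Nat), Good n P → Good n (P.map (rowW (maskF n) G w)) ∧
      toMat n (P.map (rowW (maskF n) G w)) =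
        toMat n P * (w.map fun x => toMat n (rowsOf n (G x))).prod
  | [], P, h => by
    have e : P.map (rowW (maskF n) G []) = P := List.map_id _
    rw [e]
    exact ⟨h, by simp⟩
  | x :: w, P, h => by
    obtain ⟨h1, h2⟩ := mul_spec hn h (hG x)
    obtain ⟨h3, h4⟩ := word_spec hn G hG w _ h1
    have e : P.map (rowW (maskF n) G (x :: w)) =
        (P.map fun r => red (maskF n) (comb (G x) r)).map (rowW (maskF n) G w) := by
      rw [List.map_map]
      exact List.map_congr_left fun r _ => rowW_cons _ _ _ _ _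
    rw [e]
    exact ⟨h3, by rw [h4, h2, List.map_cons, List.prod_cons, mul_assoc]⟩

theorem fix_spec {n msk : Nat} (hn : n ≤ 500) (hm : msk = maskF n) {G : Nat → List Blk}
    (hG : ∀ x, Good n (rowsOf n (G x))) {w : List Nat} (hI : Good n (idM n))
    (hI1 : toMat n (idM n) = 1)
    (h : ∀ i < n, rowFix msk G w i = true) :
    (w.map fun x => toMat n (rowsOf n (G x))).prod = 1 := by
  subst hm
  have h2 := (word_spec hn G hG w (idM n) hI).2
  have e : (idM n).map (rowW (maskF n) G w) = idM n := by
    rw [idM, List.map_map]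
    exact List.map_congr_left fun i hi => rowW_of_fix (h i (List.mem_range.1 hi))
  rw [e, hI1, one_mul] at h2
  exact h2.symm

end Cfsg.Agent.ThMat
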