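import Cfsg.Agent.ThMat.Check
import Cfsg.Agent.ThMat.Good
import Cfsg.Agent.ThMat.Unit
import Cfsg.Agent.ThMat.Orbit
import Cfsg.Prelude.Def_Spor_Th

/-!
# The representation of degree 248 of the presented Thompson group over three elements
-/

set_option autoImplicit false
set_option maxRecDepth 100000
set_option maxHeartbeats 200000

namespace Cfsg.Agent.ThMat

open Cfsg.Spor

attribute [local irreducible] pk maskF pkR

instance : Fact (Nat.Prime 3) := ⟨by norm_num⟩

theorem good_id : Good 248 id248 := good_of_check good_id_check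

theorem relC_spec {w : List Nat} (h : ∀ c < 4, relC w (62 * c) = true) : (w.map mV).prod = 1 :=
  fixW_spec good_mth mask_eq h

theorem row_spec' {r : Nat} (hr : RowOK r) (w : List Nat) :
    RowOK (rowW mask248 mth w r) ∧
      vec (rowW mask248 mth w r) = Matrix.vecMul (vec r) (w.map mV).prod :=
  row_spec good_mth mask_eq hr w

theorem invL_lt {x : Nat} (h : x < 11) : invL x < 11 := by interval_cases x <;> simp [invL]

theorem invL_invL {x : Nat} (h : x < 11) : invL (invL x) = x := by interval_cases x <;> simp [invL]

attribute [local irreducible] mV mth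

theorem inv_mV {x : Nat} (h : x < 11) : mV x * mV (invL x) = 1 := by
  have e : ([x, invL x].map mV).prod = 1 := by
    refine relC_spec ?_
    interval_cases x
    · exact th0
    · exact th1
    · exact th2
    · exact th3
    · exact th4
    · exact inv0
    · exact inv1
    · exact inv2
    · exact inv3
    · exact inv4
    · exact inv5
  simpa using e

/-- The unit of a letter. -/
noncomputable def uV (x : Nat) : GL (Fin 248) (ZMod 3) :=
  if h : x < 11 then
    ⟨mV x, mV (invL x), inv_mV h, by simpa [invL_invL h] using inv_mV (invL_lt h)⟩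
  else 1

theorem coe_uV {x : Nat} (h : x < 11) :
    (uV x : Matrix (Fin 248) (Fin 248) (ZMod 3)) = mV x := by
  rw [uV, dif_pos h]

theorem uV_invL {x : Nat} (h : x < 11) : uV (invL x) = (uV x)⁻¹ := by
  apply Units.ext
  rw [coe_uV (invL_lt h), uV, dif_pos h, Units.inv_mk]

attribute [local irreducible] uV

/-- The image of a generator. -/
noncomputable def genU (g : Th.Gen) : GL (Fin 248) (ZMod 3) := uV (code (g, true))

theorem code_lt (a : Th.Gen × Bool) : code a < 11 := by
  rcases a with ⟨g, b⟩; cases g <;> cases b <;> decide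

theorem code_false (g : Th.Gen) : code (g, false) = invL (code (g, true)) := by cases g <;> rfl

theorem lift_one (a : Th.Gen × Bool) :
    FreeGroup.lift genU (FreeGroup.mk [a]) = uV (code a) := by
  rcases a with ⟨g, b⟩
  cases b
  · rw [code_false, uV_invL (code_lt (g, true))]
    simp [FreeGroup.lift_mk, genU]
  · simp [FreeGroup.lift_mk, genU]

theorem coe_lift : ∀ l : List (Th.Gen × Bool),
    ((FreeGroup.lift genU (FreeGroup.mk l) : GL (Fin 248) (ZMod 3)) : Matrix (Fin 248) (Fin 248) (ZMod 3)) =
      ((l.map code).map mV).prod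
  | [] => by
    rw [← FreeGroup.one_eq_mk, map_one, Units.val_one]
    rfl
  | a :: l => by
    rw [show a :: l = [a] ++ l from rfl, ← FreeGroup.mul_mk, map_mul, Units.val_mul, lift_one,
      coe_lift l, coe_uV (code_lt a), List.singleton_append, List.map_cons, List.map_cons, List.prod_cons]

/-- The relators of the presented Thompson group. -/
abbrev thRels : Set (FreeGroup Th.Gen) := coxRelators Th.edges ∪ {r | r ∈ Th.extra}

theorem lits_length : lits.length = 39 := by decide +kernel

theorem th_rels : ∀ r ∈ thRels, FreeGroup.lift genU r = 1 := by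
  intro r hr
  have hr' : r ∈ Th.extra := by
    rcases hr with ⟨x, hx, -⟩ | hr
    · exact absurd hx (by simp [coxNodes, Th.edges])
    · exact hr
  apply Units.ext
  rw [← FreeGroup.mk_toWord (x := r), coe_lift, Units.val_one]
  have hm : r.toWord.map code ∈ lits :=
    lits_eq ▸ List.mem_map_of_mem (f := fun r => r.toWord.map code) hr'
  obtain ⟨k, hk, he⟩ := List.mem_iff_getElem.1 hm
  have h := th_all k (lits_length ▸ hk)
  rw [List.getD_eq_getElem _ _ hk, he] at h
  exact relC_spec h

/-- The representation of degree 248. -/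
noncomputable def thRep : Cfsg.Spor.Th →* GL (Fin 248) (ZMod 3) := PresentedGroup.toGroup th_rels

theorem uV_mem_range {x : Nat} (h : x < 11) : uV x ∈ thRep.range := by
  have hg : ∀ g : Th.Gen, genU g ∈ thRep.range := fun g =>
    ⟨PresentedGroup.of g, PresentedGroup.toGroup.of th_rels⟩
  interval_cases x
  · exact hg .a
  · exact hg .b
  · exact hg .c
  · exact hg .d
  · exact hg .e
  · exact hg .s
  · exact hg .t
  · exact hg .u
  · rw [show uV 8 = (uV 5)⁻¹ from uV_invL (by norm_num : (5 : Nat) < 11)]; exact inv_mem (hg .s)
  · rw [show uV 9 = (uV 6)⁻¹ from uV_invL (by norm_num : (6 : Nat) < 11)]; exact inv_mem (hg .t)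
  · rw [show uV 10 = (uV 7)⁻¹ from uV_invL (by norm_num : (7 : Nat) < 11)]; exact inv_mem (hg .u)

end Cfsg.Agent.ThMat
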